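import Cfsg.Agent.Classical.OrthSylowTwo.Transport

/-!
# Wreathed Sylow 2-subgroups whose squares are commutators
-/

set_option autoImplicit false
set_option linter.unusedSectionVars false
set_option linter.style.haveILetI false

namespace Cfsg.Lib.WreathSylowTwo

open Subgroup Cfsg.Lib.OrthSylowTwo
open scoped commutatorElement

variable {Γ : Type*} [Group Γ] [Finite Γ]

/-- Squares are commutators as soon as they are for the members of a generating set. -/
theorem sq_mem_of_gens (P : Subgroup Γ) (g : Set Γ) (hg : closure g = P) (hsq : ∀ x ∈ g, x ^ 2 ∈ ⁅P, P⁆) :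
    ∀ x ∈ P, x ^ 2 ∈ ⁅P, P⁆ := by
  have hconj : ∀ y ∈ P, ∀ c ∈ ⁅P, P⁆, y * c * y⁻¹ ∈ ⁅P, P⁆ := by
    intro y hy c hc
    have h1 : ⁅y, c⁆ ∈ ⁅P, P⁆ := commutator_mem_commutator hy (commutator_le_self P hc)
    have := mul_mem h1 hc
    rwa [commutatorElement_def, inv_mul_cancel_right] at this
  intro x hx
  have hx' : x ∈ closure g := hg.symm ▸ hx
  suffices x ∈ P ∧ x ^ 2 ∈ ⁅P, P⁆ from this.2
  clear hx
  induction hx' using closure_induction with
  | mem y hy => exact ⟨hg ▸ subset_closure hy, hsq y hy⟩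
  | one => exact ⟨one_mem P, by simp [one_mem]⟩
  | mul a b _ _ ha hb =>
    refine ⟨mul_mem ha.1 hb.1, ?_⟩
    rw [show (a * b) ^ 2 = a * ⁅b, a⁆ * a⁻¹ * (a ^ 2 * b ^ 2) by
      simp only [commutatorElement_def, pow_two]; group]
    exact mul_mem (hconj a ha.1 _ (commutator_mem_commutator hb.1 ha.1)) (mul_mem ha.2 hb.2)
  | inv a _ ha => exact ⟨inv_mem ha.1, by rw [inv_pow]; exact inv_mem ha.2⟩

theorem squaresComm_of_gens (P : Subgroup Γ) (g : Set Γ) (hg : closure g = P)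
    (hsq : ∀ x ∈ g, x ^ 2 ∈ ⁅P, P⁆) (hcard : Nat.card P = 2 ^ (Nat.card Γ).factorization 2) :
    SquaresComm Γ := by
  haveI : Fact (Nat.Prime 2) := ⟨Nat.prime_two⟩
  intro S x
  let PS : Sylow 2 Γ := Sylow.ofCard P hcard
  let e : PS.toSubgroup ≃* S.toSubgroup := Sylow.equiv PS S
  have h : (e.symm x) ^ 2 ∈ commutator PS.toSubgroup := by
    have h1 := sq_mem_of_gens P g hg hsq _ (e.symm x).2
    change ((e.symm x : PS.toSubgroup) : Γ) ^ 2 ∈ ⁅PS.toSubgroup, PS.toSubgroup⁆ at h1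
    rw [← map_subtype_commutator] at h1
    obtain ⟨c, hc, hcx⟩ := h1
    rwa [← Subtype.ext (show (c : Γ) = (((e.symm x) ^ 2 : PS.toSubgroup) : Γ) from hcx)]
  have h' : e ((e.symm x) ^ 2) ∈ (commutator PS.toSubgroup).map e.toMonoidHom := ⟨_, h, rfl⟩
  rw [map_pow, MulEquiv.apply_symm_apply] at h'
  have hle : (commutator PS.toSubgroup).map e.toMonoidHom ≤ commutator S.toSubgroup := by
    rw [commutator_def, map_commutator]
    exact commutator_mono le_top le_top
  exact hle h'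

theorem sq_mem_map {A : Type*} [Group A] (f : A →* Γ) {M : Subgroup A} {P : Subgroup Γ} (hle : M.map f ≤ P) {x : A}
    (hx : x ^ 2 ∈ ⁅M, M⁆) : f x ^ 2 ∈ ⁅P, P⁆ := by
  rw [← map_pow]
  exact commutator_mono hle hle (map_commutator M M f ▸ mem_map_of_mem f hx)

variable {E : Type*} [Group E] [Finite E] {m : ℕ}

/-- A Sylow 2-subgroup `b(M) ⋊ τ(W)`. -/
theorem squaresComm_wreath (M : Subgroup (Fin m → E)) (hperm : ∀ f ∈ M, ∀ σ : Equiv.Perm (Fin m), f ∘ σ ∈ M)
    (b : M →* Γ) (hb : Function.Injective b) (τ : Equiv.Perm (Fin m) →* Γ)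
    (hcomm : ∀ (f : M) (σ : Equiv.Perm (Fin m)), τ σ * b f = b ⟨(f : Fin m → E) ∘ σ.symm, hperm f f.2 σ.symm⟩ * τ σ)
    (hsep : ∀ f σ, b f = τ σ → σ = 1) (g : Set M) (hg : closure g = ⊤)
    (hsq : ∀ x ∈ g, x ^ 2 ∈ commutator M) (n : ℕ) (hM : Nat.card M = 2 ^ n)
    (hcard : (Nat.card Γ).factorization 2 = n + padicValNat 2 m.factorial) : SquaresComm Γ := by
  classical
  haveI : Fact (Nat.Prime 2) := ⟨Nat.prime_two⟩
  obtain ⟨W, hWc, hWg⟩ := exists_sylow_invol m
  let B := b.range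
  let T := W.map τ
  have hTB : T ≤ normalizer (B : Set Γ) := by
    have hconj : ∀ σ (f : M), τ σ * b f * (τ σ)⁻¹ ∈ B := fun σ f => by
      rw [hcomm, mul_inv_cancel_right]; exact ⟨_, rfl⟩
    rintro _ ⟨σ, -, rfl⟩
    rw [mem_normalizer_iff]
    intro y
    constructor
    · rintro ⟨f, rfl⟩; exact hconj σ f
    · rintro ⟨f, hf⟩
      have := hconj σ⁻¹ f
      rw [hf, map_inv] at this
      simpa [mul_assoc] using this
  have hdis : B ⊓ T = ⊥ := by
    rw [eq_bot_iff]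
    rintro _ ⟨⟨f, rfl⟩, σ, -, hσ⟩
    rw [Subgroup.mem_bot, ← hσ, hsep f σ hσ.symm, map_one]
  have hτ : Function.Injective τ := by
    rw [← MonoidHom.ker_eq_bot_iff, eq_bot_iff]
    intro σ hσ
    exact hsep 1 σ (by rw [map_one]; exact (MonoidHom.mem_ker.mp hσ).symm)
  have hPc : Nat.card ↥(B ⊔ T) = 2 ^ (Nat.card Γ).factorization 2 := by
    have h := Cfsg.Lib.Coprime.card_sup_mul_card_inf hTB
    rw [hdis, card_bot, mul_one] at h
    rw [h, card_map_of_injective hτ, hWc, show Nat.card B = 2 ^ n from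
      hM ▸ (Nat.card_congr (MonoidHom.ofInjective hb).toEquiv).symm, ← pow_add, hcard]
  refine squaresComm_of_gens (B ⊔ T) (b '' g ∪ {y | y ∈ T ∧ y * y = 1}) ?_ ?_ hPc
  · refine le_antisymm ((closure_le _).mpr ?_) (sup_le ?_ ?_)
    · rintro y (⟨x, -, rfl⟩ | hy)
      · exact mem_sup_left ⟨x, rfl⟩
      · exact mem_sup_right hy.1
    · rw [show B = b.range from rfl, MonoidHom.range_eq_map, ← hg, MonoidHom.map_closure]
      exact closure_mono Set.subset_union_left
    · exact (closure_invol_map τ hWg).trans (closure_mono Set.subset_union_right)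
  · rintro y (⟨x, hx, rfl⟩ | hy)
    · refine sq_mem_map b (M := ⊤) ?_ (hsq x hx)
      rw [← MonoidHom.range_eq_map]; exact le_sup_left
    · rw [pow_two, hy.2]; exact one_mem _

end Cfsg.Lib.WreathSylowTwo
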