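import Cfsg.Agent.Classical.WreathSylowTwo.GLPair

/-!
# Block diagonal and block permutation matrices
-/

set_option autoImplicit false
set_option linter.unusedSectionVars false

namespace Cfsg.Lib.WreathSylowTwo

open Matrix

universe u

variable {F : Type u} [Field F] {m : ℕ}

/-- The place of a row of a block. -/
def pairIdx (m : ℕ) : Fin 2 × Fin m ≃ Fin m ⊕ Fin m :=
  ((Equiv.prodCongr (finTwoEquiv) (Equiv.refl _)).trans (Equiv.boolProdEquivSum _))

/-- Blockwise matrices. -/
def blk : (Fin m → Matrix (Fin 2) (Fin 2) F) →* Matrix (Fin m ⊕ Fin m) (Fin m ⊕ Fin m) F :=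
  ((Matrix.reindexAlgEquiv F F (pairIdx m)).toMonoidHom).comp
    (Matrix.blockDiagonalRingHom (Fin 2) (Fin m) F).toMonoidHom

theorem blk_eq (f : Fin m → Matrix (Fin 2) (Fin 2) F) : blk f =
    fromBlocks (diagonal fun i => f i 0 0) (diagonal fun i => f i 0 1)
      (diagonal fun i => f i 1 0) (diagonal fun i => f i 1 1) := by
  ext a b
  show Matrix.blockDiagonal f ((pairIdx m).symm a) ((pairIdx m).symm b) = _
  rcases a with a | a <;> rcases b with b | b <;>
    simp [pairIdx, Matrix.blockDiagonal_apply, Matrix.diagonal_apply, finTwoEquiv, Equiv.boolProdEquivSum]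

theorem det_blk (f : Fin m → Matrix (Fin 2) (Fin 2) F) : (blk f).det = ∏ i, (f i).det := by
  show (Matrix.reindex (pairIdx m) (pairIdx m) (Matrix.blockDiagonal f)).det = _
  rw [Matrix.det_reindex_self, Matrix.det_blockDiagonal]

theorem blk_injective : Function.Injective (blk (F := F) (m := m)) := by
  intro f g h
  rw [blk_eq, blk_eq, fromBlocks_inj] at h
  obtain ⟨h1, h2, h3, h4⟩ := h
  funext i
  ext a b
  fin_cases a <;> fin_cases b
  · exact congrFun (diagonal_injective h1) i
  · exact congrFun (diagonal_injective h2) i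
  · exact congrFun (diagonal_injective h3) i
  · exact congrFun (diagonal_injective h4) i

/-- The permutation matrix as a homomorphism. -/
def pmat (σ : Equiv.Perm (Fin m)) : Matrix (Fin m) (Fin m) F := (σ⁻¹).permMatrix F

theorem pmat_apply (σ : Equiv.Perm (Fin m)) (a b : Fin m) :
    (pmat σ : Matrix (Fin m) (Fin m) F) a b = if a = σ b then 1 else 0 := by
  simp [pmat, Equiv.Perm.permMatrix, PEquiv.toMatrix_apply, Equiv.toPEquiv_apply, Equiv.symm_apply_eq]

theorem pmat_transpose (σ : Equiv.Perm (Fin m)) :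
    (pmat σ : Matrix (Fin m) (Fin m) F)ᵀ = pmat σ⁻¹ := by
  simp [pmat, Matrix.transpose_permMatrix]

/-- Block permutations. -/
def top : Equiv.Perm (Fin m) →* Matrix (Fin m ⊕ Fin m) (Fin m ⊕ Fin m) F where
  toFun σ := fromBlocks (pmat σ) 0 0 (pmat σ)
  map_one' := by simp [pmat]
  map_mul' σ τ := by simp [pmat, fromBlocks_multiply, Matrix.permMatrix_mul]

theorem top_eq (σ : Equiv.Perm (Fin m)) :
    (top σ : Matrix (Fin m ⊕ Fin m) (Fin m ⊕ Fin m) F) = fromBlocks (pmat σ) 0 0 (pmat σ) := rfl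

theorem det_top (σ : Equiv.Perm (Fin m)) :
    (top σ : Matrix (Fin m ⊕ Fin m) (Fin m ⊕ Fin m) F).det = 1 := by
  rw [top_eq, det_fromBlocks_zero₂₁, pmat, Matrix.det_permutation, Equiv.Perm.sign_inv]
  rcases Int.units_eq_one_or (Equiv.Perm.sign σ) with h | h <;> simp [h]

theorem top_mul_blk (σ : Equiv.Perm (Fin m)) (f : Fin m → Matrix (Fin 2) (Fin 2) F) :
    top σ * blk f = blk (f ∘ σ.symm) * top σ := by
  have h : ∀ d : Fin m → F, pmat σ * diagonal d = diagonal (d ∘ σ.symm) * pmat σ := by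
    intro d
    ext a b
    rw [mul_diagonal, diagonal_mul, pmat_apply]
    by_cases hab : a = σ b
    · subst hab; simp
    · simp [hab]
  rw [blk_eq, blk_eq, top_eq, fromBlocks_multiply, fromBlocks_multiply]
  simp only [Matrix.zero_mul, Matrix.mul_zero, add_zero, zero_add, h]
  rfl

theorem blk_eq_top (f : Fin m → Matrix (Fin 2) (Fin 2) F) (σ : Equiv.Perm (Fin m)) (h : blk f = top σ) :
    σ = 1 := by
  rw [blk_eq, top_eq, fromBlocks_inj] at h
  refine Equiv.ext fun i => ?_
  by_contra hne
  have := congrFun (congrFun h.1 (σ i)) i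
  rw [pmat_apply, if_pos rfl, diagonal_apply_ne _ (show σ i ≠ i from hne)] at this
  exact zero_ne_one this

end Cfsg.Lib.WreathSylowTwo
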