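import Cfsg.Agent.Classical.WreathSylowTwo.Pair

/-!
# A Sylow 2-subgroup of `GL₂(q)` for `q ≡ 3 (mod 4)`
-/

set_option autoImplicit false
set_option linter.unusedSectionVars false
set_option linter.style.haveILetI false

namespace Cfsg.Lib.WreathSylowTwo

open Matrix Subgroup Cfsg.Lib.OrthSylowTwo
open scoped commutatorElement

universe u

variable {F : Type u} [Field F] [Fintype F] [DecidableEq F]

/-- Invertible rotations. -/
def rotGL : Subgroup (GL (Fin 2) F) where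
  carrier := {g | ∃ x y, (g : Matrix (Fin 2) (Fin 2) F) = rot x y}
  one_mem' := ⟨1, 0, rot_one.symm⟩
  mul_mem' := by
    rintro a b ⟨x, y, ha⟩ ⟨x', y', hb⟩
    exact ⟨_, _, (Units.val_mul a b).trans (by rw [ha, hb, rot_mul])⟩
  inv_mem' := by
    rintro a ⟨x, y, ha⟩
    have hu : (a : Matrix (Fin 2) (Fin 2) F).det ≠ 0 := (isUnits_det_units a).ne_zero
    rw [ha, det_rot] at hu
    refine ⟨x / (x * x + y * y), -y / (x * x + y * y), ?_⟩
    refine Units.inv_eq_of_mul_eq_one_right ?_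
    rw [ha, rot_mul, ← rot_one]
    congr 1
    · rw [mul_div, mul_div, ← sub_div, div_eq_one_iff_eq hu]; ring
    · ring

theorem sum_sq_ne (h4 : Fintype.card F % 4 = 3) {x y : F} (h : x * x + y * y = 0) : x = 0 ∧ y = 0 := by
  by_cases hy : y = 0
  · subst hy; exact ⟨by simpa using h, rfl⟩
  · exfalso
    have : IsSquare (-1 : F) := ⟨x / y, by field_simp; linear_combination -h⟩
    rw [FiniteField.isSquare_neg_one_iff] at this
    omega

theorem card_rotGL (h4 : Fintype.card F % 4 = 3) :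
    Nat.card (rotGL (F := F)) = Fintype.card F ^ 2 - 1 := by
  classical
  let f : {p : F × F // p ≠ 0} → rotGL (F := F) := fun p =>
    ⟨Matrix.GeneralLinearGroup.mkOfDetNeZero (rot p.1.1 p.1.2) (by
      rw [det_rot]; exact fun h => p.2 (Prod.ext (sum_sq_ne h4 h).1 (sum_sq_ne h4 h).2)), _, _, rfl⟩
  rw [← Nat.card_congr (Equiv.ofBijective f ⟨?_, ?_⟩), Nat.card_eq_fintype_card, Fintype.card_subtype_compl,
    Fintype.card_prod, Fintype.card_subtype_eq, pow_two]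
  · intro p p' h
    obtain ⟨h1, h2⟩ := rot_inj (congrArg (fun g : rotGL (F := F) => ((g.1 : GL (Fin 2) F) : Matrix (Fin 2) (Fin 2) F)) h)
    exact Subtype.ext (Prod.ext h1 h2)
  · rintro ⟨g, x, y, hg⟩
    refine ⟨⟨(x, y), fun h => ?_⟩, Subtype.ext (Units.ext hg.symm)⟩
    have hu : (g : Matrix (Fin 2) (Fin 2) F).det ≠ 0 := (isUnits_det_units g).ne_zero
    rw [hg, det_rot] at hu
    simp only [Prod.mk_eq_zero] at h
    exact hu (by rw [h.1, h.2]; ring)

theorem rotGL_comm : ∀ a ∈ rotGL (F := F), ∀ b ∈ rotGL, a * b = b * a := by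
  rintro a ⟨x, y, ha⟩ b ⟨x', y', hb⟩
  refine Units.ext ?_
  rw [Units.val_mul, Units.val_mul, ha, hb, rot_mul, rot_mul]
  congr 1 <;> ring

/-- The reflection `diag (1, -1)`. -/
def sgl : GL (Fin 2) F :=
  Matrix.GeneralLinearGroup.mkOfDetNeZero !![1, 0; 0, -1] (by simp [Matrix.det_fin_two_of])

theorem sgl_mul_self : (sgl : GL (Fin 2) F) * sgl = 1 := Units.ext (by
  show (!![1, 0; 0, -1] : Matrix (Fin 2) (Fin 2) F) * !![1, 0; 0, -1] = 1
  ext i j; fin_cases i <;> fin_cases j <;> simp)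

theorem sgl_inv : (sgl : GL (Fin 2) F)⁻¹ = sgl := inv_eq_of_mul_eq_one_right sgl_mul_self

theorem det_sgl : GeneralLinearGroup.det (sgl : GL (Fin 2) F) = -1 :=
  Units.ext (by show (!![1, 0; 0, -1] : Matrix (Fin 2) (Fin 2) F).det = -1; simp [Matrix.det_fin_two_of])

theorem sgl_conj {c : GL (Fin 2) F} (hF : Odd (Fintype.card F)) (h4 : Fintype.card F % 4 = 3)
    (hc : c ∈ rotGL) : sgl * c * sgl⁻¹ = c ^ Fintype.card F := by
  obtain ⟨x, y, hxy⟩ := hc
  obtain ⟨p, hp⟩ := CharP.exists F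
  haveI : Fact p.Prime := ⟨CharP.char_is_prime F p⟩
  obtain ⟨n, -, hn⟩ := FiniteField.card F p
  rw [sgl_inv]
  refine Units.ext ?_
  rw [Units.val_mul, Units.val_mul, Units.val_pow_eq_pow_val, hxy]
  have hJ : rot (0 : F) 1 ^ Fintype.card F = rot 0 (-1) := by
    obtain ⟨k, hk⟩ : ∃ k, Fintype.card F = 4 * k + 3 := ⟨Fintype.card F / 4, by omega⟩
    have h2' : rot (0 : F) 1 * rot 0 1 = rot (-1) 0 := by rw [rot_mul]; congr 1 <;> ring
    have h44 : rot (0 : F) 1 ^ 4 = 1 := by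
      rw [show (4 : ℕ) = 2 + 2 from rfl, pow_add, pow_two, h2', rot_mul, ← rot_one]; congr 1 <;> ring
    rw [hk, pow_add, pow_mul, h44, one_pow, one_mul, pow_succ, pow_two, h2', rot_mul]
    congr 1 <;> ring
  have hsplit : rot x y = x • (1 : Matrix (Fin 2) (Fin 2) F) + y • rot 0 1 := by
    ext i j; fin_cases i <;> fin_cases j <;> simp [rot]
  rw [hsplit, hn]
  rw [add_pow_char_pow_of_commute p (n : ℕ) ((Commute.one_left (rot (0 : F) 1)).smul_left x |>.smul_right y)]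
  rw [← hn, smul_pow, smul_pow, one_pow, hJ, FiniteField.pow_card, FiniteField.pow_card]
  show (!![1, 0; 0, -1] : Matrix (Fin 2) (Fin 2) F) * _ * !![1, 0; 0, -1] = _
  rw [← hsplit, show x • (1 : Matrix (Fin 2) (Fin 2) F) + y • rot 0 (-1) = rot x (-y) by
    ext i j; fin_cases i <;> fin_cases j <;> simp [rot]]
  ext i j; fin_cases i <;> fin_cases j <;> simp [rot, Matrix.mul_apply, Fin.sum_univ_two]

/-- The data of a semidihedral Sylow 2-subgroup `C ⋊ ⟨sgl⟩` of `GL₂`. -/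
theorem exists_gl_pair (hF : Odd (Fintype.card F)) (h4 : Fintype.card F % 4 = 3) :
    ∃ (C : Subgroup (GL (Fin 2) F)) (c₀ j : GL (Fin 2) F),
      C ≤ rotGL (F := F) ∧ IsPGroup 2 C ∧ Nat.card C = 2 ^ padicValNat 2 (Fintype.card F ^ 2 - 1) ∧
      (∀ c ∈ C, (sgl (F := F)) * c * (sgl (F := F))⁻¹ ∈ C) ∧
      (∀ c ∈ C, (GeneralLinearGroup.det c : Fˣ) = 1 ∨ (GeneralLinearGroup.det c : Fˣ) = -1) ∧
      (∀ c ∈ C, ∀ H : Subgroup (GL (Fin 2) F), ⁅(sgl (F := F)), c⁆ ∈ H → c ^ 2 ∈ H) ∧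
      c₀ ∈ C ∧ GeneralLinearGroup.det c₀ = -1 ∧ j ∈ C ∧ GeneralLinearGroup.det j = 1 ∧
      (c₀ * (sgl (F := F))) * (c₀ * (sgl (F := F))) = j * j ∧ (sgl (F := F)) ∉ C := by
  haveI : Fact (Nat.Prime 2) := ⟨Nat.prime_two⟩
  have h2 : (2 : F) ≠ 0 := Cfsg.Lib.Classical.Refl.two_ne_zero_of_odd hF
  obtain ⟨C, hCR, hC2, hCc, hCmem⟩ := exists_two_part (rotGL (F := F)) rotGL_comm
  rw [card_rotGL h4, Nat.factorization_def _ Nat.prime_two] at hCc
  have hpow : ∀ c ∈ C, ∃ k : ℕ, c ^ 2 ^ k = 1 := fun c hc => by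
    obtain ⟨k, hk⟩ := hC2 ⟨c, hc⟩
    exact ⟨k, by simpa using congrArg Subtype.val hk⟩
  have hsC : ∀ c ∈ C, (sgl (F := F)) * c * (sgl (F := F))⁻¹ ∈ C := fun c hc => by
    rw [sgl_conj hF h4 (hCR hc)]; exact pow_mem hc _
  have hdet : ∀ c ∈ C, GeneralLinearGroup.det c = 1 ∨ GeneralLinearGroup.det c = -1 := by
    intro c hc
    obtain ⟨k, hk⟩ := hpow c hc
    set u := GeneralLinearGroup.det c
    have h1 : u ^ 2 ^ k = 1 := by rw [← map_pow, hk, map_one]
    have h3 : u ^ (Fintype.card F - 1) = 1 := Units.ext (by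
      rw [Units.val_pow_eq_pow_val]; exact FiniteField.pow_card_sub_one_eq_one _ u.ne_zero)
    have h5 : orderOf u ∣ 2 := by
      obtain ⟨i, -, hi⟩ := (Nat.dvd_prime_pow Nat.prime_two).mp (orderOf_dvd_of_pow_eq_one h1)
      have hd := orderOf_dvd_of_pow_eq_one h3
      rw [hi] at hd ⊢
      rcases (show i ≤ 1 ∨ 2 ≤ i by omega) with hi1 | hi2
      · exact (pow_dvd_pow 2 hi1).trans (by norm_num)
      · have h6 : 4 ∣ Fintype.card F - 1 := (show 4 ∣ 2 ^ i from (pow_dvd_pow 2 hi2)).trans hd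
        omega
    have h7 : u ^ 2 = 1 := orderOf_dvd_iff_pow_eq_one.mp h5
    have h8 : (u : F) * u = 1 := by rw [← pow_two, ← Units.val_pow_eq_pow_val, h7, Units.val_one]
    rcases mul_self_eq_one_iff.mp h8 with h | h
    · exact Or.inl (Units.ext h)
    · exact Or.inr (Units.ext (by simpa using h))
  have hcomm : ∀ c ∈ C, ∀ H : Subgroup (GL (Fin 2) F), ⁅(sgl (F := F)), c⁆ ∈ H → c ^ 2 ∈ H := by
    intro c hc H hH
    obtain ⟨k, hk⟩ := hpow c hc
    obtain ⟨t, ht, htodd⟩ : ∃ t, Fintype.card F - 1 = 2 * t ∧ Odd t :=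
      ⟨(Fintype.card F - 1) / 2, by omega, Nat.odd_iff.mpr (by omega)⟩
    have he : ⁅(sgl (F := F)), c⁆ = (c ^ 2) ^ t := by
      rw [commutatorElement_def, sgl_conj hF h4 (hCR hc), ← pow_mul, ← ht,
        mul_inv_eq_iff_eq_mul, ← pow_succ]
      congr 1; omega
    rw [he] at hH
    have hcop : (orderOf (c ^ 2)).Coprime t :=
      ((Nat.coprime_two_left.mpr htodd).pow_left k).coprime_dvd_left
        (orderOf_dvd_of_pow_eq_one (by rw [← pow_mul, mul_comm, pow_mul, hk, one_pow]))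
    obtain ⟨v, hv⟩ := exists_pow_eq_self_of_coprime hcop.symm
    rw [← hv]
    exact pow_mem hH v
  let j : GL (Fin 2) F := Matrix.GeneralLinearGroup.mkOfDetNeZero (rot 0 1) (by rw [det_rot]; simp)
  have hj4 : j ^ 2 ^ 2 = 1 := Units.ext (by
    rw [Units.val_pow_eq_pow_val, show (2 : ℕ) ^ 2 = 2 + 2 from rfl, pow_add, pow_two]
    show rot (0 : F) 1 * rot 0 1 * (rot 0 1 * rot 0 1) = 1
    rw [rot_mul, rot_mul, ← rot_one]; congr 1 <;> ring)
  have hjC : j ∈ C := hCmem j ⟨0, 1, rfl⟩ 2 hj4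
  obtain ⟨a, b, hab⟩ := exists_neg_one_sum (F := F)
  let c : GL (Fin 2) F := Matrix.GeneralLinearGroup.mkOfDetNeZero (rot a b) (by rw [det_rot, hab]; simp)
  obtain ⟨k, m, hm, hkm⟩ := Nat.exists_eq_two_pow_mul_odd (orderOf_pos c).ne'
  have hc0 : c ^ m ∈ C := hCmem _ (pow_mem (show c ∈ rotGL from ⟨a, b, rfl⟩) m) k
    (by rw [← pow_mul, mul_comm, ← hkm, pow_orderOf_eq_one])
  have hdc : GeneralLinearGroup.det (c ^ m) = -1 := by
    rw [map_pow, show GeneralLinearGroup.det c = -1 from Units.ext (by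
      show (rot a b).det = ((-1 : Fˣ) : F); rw [det_rot, hab]; simp), hm.neg_one_pow]
  refine ⟨C, c ^ m, j, hCR, hC2, hCc, hsC, hdet, hcomm, hc0, hdc, hjC,
    Units.ext (by show (rot (0 : F) 1).det = 1; rw [det_rot]; ring), ?_, ?_⟩
  · obtain ⟨x, y, hxy⟩ := hCR hc0
    have hd : x * x + y * y = -1 := by
      rw [← det_rot, ← hxy]
      simpa using congrArg Units.val hdc
    refine Units.ext ?_
    rw [Units.val_mul, Units.val_mul, hxy]
    show rot x y * !![1, 0; 0, -1] * (rot x y * !![1, 0; 0, -1]) = rot 0 1 * rot 0 1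
    ext i l
    fin_cases i <;> fin_cases l <;> simp [rot, Matrix.mul_apply, Fin.sum_univ_two] <;>
      first | ring1 | linear_combination hd
  · intro h
    obtain ⟨x, y, hxy⟩ := hCR h
    have h00 := congrFun (congrFun hxy 0) 0
    have h11 := congrFun (congrFun hxy 1) 1
    simp [sgl, rot] at h00 h11
    exact h2 (by linear_combination h00 - h11)

end Cfsg.Lib.WreathSylowTwo
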