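import Cfsg.Agent.Classical.WreathSylowTwo.Blocks
import Cfsg.Agent.Classical.Symp.Matrix

/-!
# Squares in Sylow 2-subgroups of symplectic and special linear groups
-/

set_option autoImplicit false
set_option linter.unusedSectionVars false
set_option linter.style.haveILetI false

namespace Cfsg.Lib.WreathSylowTwo

open Matrix Subgroup Cfsg.Lib.OrthSylowTwo
open scoped commutatorElement

universe u

/-- Generators of a subgroup viewed inside it. -/
theorem gens_inside {A : Type*} [Group A] (M : Subgroup A) (g : Set A) (hg : Subgroup.closure g = M)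
    (hsq : ∀ x ∈ g, x ^ 2 ∈ ⁅M, M⁆) :
    ∃ g' : Set M, Subgroup.closure g' = ⊤ ∧ ∀ x ∈ g', x ^ 2 ∈ commutator M := by
  refine ⟨(fun x : M => (x : A)) ⁻¹' g, ?_, fun x hx => ?_⟩
  · apply Subgroup.map_injective M.subtype_injective
    rw [MonoidHom.map_closure, ← MonoidHom.range_eq_map, M.range_subtype]
    show Subgroup.closure ((fun x : M => (x : A)) '' _) = M
    rw [Set.image_preimage_eq_of_subset, hg]
    intro y hy
    exact ⟨⟨y, hg ▸ Subgroup.subset_closure hy⟩, rfl⟩
  · have h := hsq _ hx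
    rw [← map_subtype_commutator] at h
    obtain ⟨c, hc, hcx⟩ := h
    rwa [← Subtype.ext (show (c : A) = ((x ^ 2 : M) : A) from hcx)]

theorem commutator_single {A : Type*} [Group A] {m : ℕ} (i : Fin m) (M : Subgroup (Fin m → A)) {a b : A}
    (ha : Pi.mulSingle i a ∈ M) (hb : Pi.mulSingle i b ∈ M) :
    ⁅a, b⁆ ∈ ⁅M, M⁆.comap (MonoidHom.mulSingle (fun _ : Fin m => A) i) := by
  rw [mem_comap, map_commutatorElement]
  exact commutator_mem_commutator ha hb

theorem card_pi_const {A : Type*} [Group A] (E : Subgroup A) (m : ℕ) :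
    Nat.card ↥(Subgroup.pi Set.univ fun _ : Fin m => E) = Nat.card E ^ m := by
  rw [Nat.card_congr (β := Fin m → E)
    { toFun := fun f i => ⟨f.1 i, (Subgroup.mem_pi _).mp f.2 i (Set.mem_univ i)⟩
      invFun := fun f => ⟨fun i => f i, (Subgroup.mem_pi _).mpr fun i _ => (f i).2⟩
      left_inv := fun _ => rfl
      right_inv := fun _ => rfl }, Nat.card_fun, Nat.card_fin]

variable {F : Type u} [Field F] [Fintype F] [DecidableEq F] {m : ℕ}

theorem padic_q (hF : Odd (Fintype.card F)) (e : ℕ) : padicValNat 2 (Fintype.card F ^ e) = 0 :=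
  padic_two_odd fun h => by
    have := Nat.Prime.dvd_of_dvd_pow Nat.prime_two h
    have := Nat.odd_iff.mp hF
    omega

/-- The symplectic groups. -/
theorem squaresComm_symplectic (hF : Odd (Fintype.card F)) (n : ℕ) :
    SquaresComm (Matrix.symplecticGroup (Fin n) F) := by
  haveI : Fact (Nat.Prime 2) := ⟨Nat.prime_two⟩
  obtain ⟨D, g, hg, hsq, hD⟩ := exists_sl_pair hF
  set M : Subgroup (Fin n → SpecialLinearGroup (Fin 2) F) := Subgroup.pi Set.univ fun _ => D with hMdef
  have hmem : ∀ f, f ∈ M ↔ ∀ i, f i ∈ D := fun f => by simp [hMdef, Subgroup.mem_pi]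
  have hsing : ∀ i (d : D), (Pi.mulSingle i (d : SpecialLinearGroup (Fin 2) F) : Fin n → _) ∈ M :=
    fun i d => (hmem _).mpr fun l => by
      by_cases hl : l = i
      · subst hl; simp
      · simp [hl, one_mem]
  have hblk : ∀ f : Fin n → SpecialLinearGroup (Fin 2) F,
      blk (fun i => (f i : Matrix (Fin 2) (Fin 2) F)) ∈ Matrix.symplecticGroup (Fin n) F := by
    intro f
    have hd : ∀ i, (f i : Matrix (Fin 2) (Fin 2) F) 0 0 * (f i : Matrix (Fin 2) (Fin 2) F) 1 1 -
        (f i : Matrix (Fin 2) (Fin 2) F) 0 1 * (f i : Matrix (Fin 2) (Fin 2) F) 1 0 = 1 := fun i => by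
      rw [← Matrix.det_fin_two]; exact (f i).2
    rw [SymplecticGroup.mem_iff, blk_eq, Matrix.J, fromBlocks_transpose, fromBlocks_multiply, fromBlocks_multiply]
    simp only [diagonal_transpose, Matrix.mul_zero, zero_add, add_zero, Matrix.mul_one, Matrix.mul_neg,
      Matrix.neg_mul, diagonal_mul_diagonal, ← diagonal_neg, diagonal_add, ← diagonal_one, ← diagonal_zero]
    congr 1
    all_goals
      ext a b
      rcases eq_or_ne a b with rfl | hab
      · simp
        first | ring1 | linear_combination -hd a | linear_combination hd a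
      · simp [hab]
  have htop : ∀ σ : Equiv.Perm (Fin n), (top σ : Matrix _ _ F) ∈ Matrix.symplecticGroup (Fin n) F := by
    intro σ
    have hP : (pmat σ : Matrix (Fin n) (Fin n) F) * pmat σ⁻¹ = 1 := by
      rw [pmat, pmat, ← Matrix.permMatrix_mul]; simp
    rw [SymplecticGroup.mem_iff, top_eq, Matrix.J, fromBlocks_transpose, fromBlocks_multiply, fromBlocks_multiply]
    simp [pmat_transpose, hP]
  let b : M →* Matrix.symplecticGroup (Fin n) F :=
    { toFun := fun f => ⟨blk fun i => (f.1 i : Matrix (Fin 2) (Fin 2) F), hblk f.1⟩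
      map_one' := Subtype.ext (map_one blk)
      map_mul' := fun f f' => Subtype.ext (map_mul blk _ _) }
  let τ : Equiv.Perm (Fin n) →* Matrix.symplecticGroup (Fin n) F :=
    { toFun := fun σ => ⟨top σ, htop σ⟩
      map_one' := Subtype.ext (map_one top)
      map_mul' := fun σ σ' => Subtype.ext (map_mul top _ _) }
  obtain ⟨g', hg', hsq'⟩ := gens_inside M {f | ∃ i, ∃ x ∈ g, f = Pi.mulSingle i (x : SpecialLinearGroup (Fin 2) F)}
    (by
      refine le_antisymm ((Subgroup.closure_le _).mpr ?_) ?_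
      · rintro _ ⟨i, x, -, rfl⟩; exact hsing i x
      · rw [hMdef, Subgroup.pi_le_iff]
        intro i
        rintro _ ⟨d, hd, rfl⟩
        have hle : Subgroup.closure g ≤ (Subgroup.closure {f | ∃ i, ∃ x ∈ g, f = Pi.mulSingle i (x : SpecialLinearGroup (Fin 2) F)}).comap
            ((MonoidHom.mulSingle (fun _ : Fin n => SpecialLinearGroup (Fin 2) F) i).comp D.subtype) := by
          rw [Subgroup.closure_le]
          exact fun x hx => Subgroup.subset_closure ⟨i, x, hx, rfl⟩
        rw [hg] at hle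
        exact hle (mem_top (⟨d, hd⟩ : D)))
    (by
      rintro _ ⟨i, x, hx, rfl⟩
      let ψ : D →* (Fin n → SpecialLinearGroup (Fin 2) F) :=
        (MonoidHom.mulSingle (fun _ => SpecialLinearGroup (Fin 2) F) i).comp D.subtype
      refine sq_mem_map ψ (M := ⊤) ?_ (hsq x hx)
      rintro _ ⟨d, -, rfl⟩
      exact hsing i d)
  refine squaresComm_wreath M (fun f hf σ => (hmem _).mpr fun i => (hmem _).mp hf (σ i)) b
    (fun f f' h => Subtype.ext (funext fun i => Subtype.ext
      (congrFun (blk_injective (congrArg Subtype.val h)) i))) τ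
    (fun f σ => Subtype.ext (top_mul_blk σ _)) (fun f σ h => blk_eq_top _ σ (congrArg Subtype.val h))
    g' hg' hsq' (padicValNat 2 (Fintype.card F ^ 2 - 1) * n) ?_ ?_
  · rw [hMdef, card_pi_const, hD, ← pow_mul]
  · have h1 : 1 < Fintype.card F := Fintype.one_lt_card
    have hP := padic_prod hF h1 n
    rw [Nat.factorization_def _ Nat.prime_two, Cfsg.Lib.Classical.card_symplecticGroup, Nat.card_eq_fintype_card,
      padicValNat.mul (pow_ne_zero _ (by omega)) hP.1, padic_q hF, hP.2]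
    ring

/-- The two-part of the order of `GL_n` for `q ≡ 3 (mod 4)`. -/
theorem padic_gl_prod (hF : Odd (Fintype.card F)) (h4 : Fintype.card F % 4 = 3) (m : ℕ) :
    (∏ j ∈ Finset.range (2 * m), (Fintype.card F ^ (j + 1) - 1)) ≠ 0 ∧
      padicValNat 2 (∏ j ∈ Finset.range (2 * m), (Fintype.card F ^ (j + 1) - 1)) =
        m * (padicValNat 2 (Fintype.card F ^ 2 - 1) + 1) + padicValNat 2 m.factorial ∧
      padicValNat 2 (Fintype.card F ^ (2 * m + 1) - 1) = 1 := by
  haveI : Fact (Nat.Prime 2) := ⟨Nat.prime_two⟩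
  have h1 : 1 < Fintype.card F := Fintype.one_lt_card
  have hodd : ∀ j, padicValNat 2 (Fintype.card F ^ (2 * j + 1) - 1) = 1 := fun j => by
    have : Fintype.card F ^ (2 * j + 1) % 4 = 3 := by
      rw [pow_succ, pow_mul, Nat.mul_mod, Nat.pow_mod, Nat.pow_mod (Fintype.card F) 2, h4]; simp
    exact padic_two_of_mod_four (by omega)
  induction m with
  | zero => exact ⟨by simp, by simp, hodd 0⟩
  | succ m ih =>
    rw [show 2 * (m + 1) = 2 * m + 1 + 1 from by ring, Finset.prod_range_succ, Finset.prod_range_succ]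
    have hne : ∀ j, Fintype.card F ^ (j + 1) - 1 ≠ 0 := fun j => pow_sub_ne h1 (by omega)
    refine ⟨mul_ne_zero (mul_ne_zero ih.1 (hne _)) (hne _), ?_, ?_⟩
    · rw [padicValNat.mul (mul_ne_zero ih.1 (hne _)) (hne _), padicValNat.mul ih.1 (hne _), ih.2.1, ih.2.2,
        show 2 * m + 1 + 1 = 2 * (m + 1) by ring, padic_sq_pow hF h1 (by omega), Nat.factorial_succ,
        padicValNat.mul (by omega) (Nat.factorial_ne_zero m)]
      ring
    · have := hodd (m + 1)
      rwa [show 2 * (m + 1) + 1 = 2 * m + 1 + 1 + 1 by ring] at this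

theorem padic_card_SL (hF : Odd (Fintype.card F)) (ι : Type) [Fintype ι] [DecidableEq ι] {n : ℕ}
    (hι : Fintype.card ι = n) (hn : 1 ≤ n) :
    padicValNat 2 (Fintype.card F - 1) + (Nat.card (SpecialLinearGroup ι F)).factorization 2 =
      padicValNat 2 (∏ j ∈ Finset.range n, (Fintype.card F ^ (j + 1) - 1)) := by
  haveI : Fact (Nat.Prime 2) := ⟨Nat.prime_two⟩
  subst hι
  haveI : Nonempty ι := Fintype.card_pos_iff.mp hn
  have h1 : 1 < Fintype.card F := Fintype.one_lt_card
  have e := Nat.card_congr (Units.mapEquiv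
    (Matrix.reindexAlgEquiv F F (Fintype.equivFin ι)).toMulEquiv).toEquiv
  rw [Matrix.card_GL_field, ← Cfsg.Lib.Classical.card_SL_mul (ι := ι) (F := F)] at e
  rw [Nat.factorization_def _ Nat.prime_two, ← padicValNat.mul (by omega) Nat.card_pos.ne',
    show (Fintype.card F - 1) = Nat.card F - 1 by rw [Nat.card_eq_fintype_card], e]
  rw [show (∏ i : Fin (Fintype.card ι), (Fintype.card F ^ Fintype.card ι - Fintype.card F ^ (i : ℕ))) =
    Fintype.card F ^ (∑ i ∈ Finset.range (Fintype.card ι), i) *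
      ∏ j ∈ Finset.range (Fintype.card ι), (Fintype.card F ^ (j + 1) - 1) from ?_]
  · rw [padicValNat.mul (pow_ne_zero _ (by omega)) (Finset.prod_ne_zero_iff.mpr fun j _ =>
      pow_sub_ne h1 (by omega)), padic_q hF, zero_add]
  · rw [Fin.prod_univ_eq_prod_range (fun i => Fintype.card F ^ Fintype.card ι - Fintype.card F ^ i),
      ← Finset.prod_pow_eq_pow_sum, ← Finset.prod_range_reflect (fun j => Fintype.card F ^ (j + 1) - 1),
      ← Finset.prod_mul_distrib]
    refine Finset.prod_congr rfl fun i hi => ?_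
    have hi' := Finset.mem_range.mp hi
    rw [Nat.mul_sub, ← pow_add, mul_one, show i + (Fintype.card ι - 1 - i + 1) = Fintype.card ι by omega]

variable (hF : Odd (Fintype.card F)) (h4 : Fintype.card F % 4 = 3)
include hF h4

/-- The semidihedral group with its generators. -/
theorem exists_gl_group :
    ∃ (C E : Subgroup (GL (Fin 2) F)) (c₀ j : GL (Fin 2) F), C ≤ E ∧ sgl ∈ E ∧
      Nat.card E = 2 ^ (padicValNat 2 (Fintype.card F ^ 2 - 1) + 1) ∧
      (∀ e ∈ E, ∃ c ∈ C, e = c ∨ e = c * sgl) ∧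
      (∀ e ∈ E, GeneralLinearGroup.det e = 1 ∨ GeneralLinearGroup.det e = -1) ∧
      (∀ c ∈ C, ∀ H : Subgroup (GL (Fin 2) F), ⁅sgl (F := F), c⁆ ∈ H → c ^ 2 ∈ H) ∧
      (∀ c ∈ C, ⁅c₀ * sgl, c⁆ = ⁅sgl (F := F), c⁆) ∧
      c₀ ∈ C ∧ GeneralLinearGroup.det c₀ = -1 ∧ j ∈ C ∧ GeneralLinearGroup.det j = 1 ∧
      (c₀ * sgl) * (c₀ * sgl) = j * j := by
  obtain ⟨C, c₀, j, hCR, hC2, hCc, hsC, hdet, hcomm, hc₀, hdc₀, hj, hdj, hsq, hns⟩ := exists_gl_pair hF h4
  have hTn : zpowers (sgl (F := F)) ≤ normalizer (C : Set (GL (Fin 2) F)) := by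
    rw [zpowers_le, mem_normalizer_iff]
    refine fun y => ⟨hsC y, fun hy => ?_⟩
    have := hsC _ hy
    rwa [sgl_inv, show sgl * (sgl * y * sgl) * sgl = (sgl * sgl) * y * (sgl * sgl) by group,
      sgl_mul_self, one_mul, mul_one] at this
  have hord : orderOf (sgl (F := F)) = 2 := orderOf_eq_prime (by rw [pow_two, sgl_mul_self])
    (fun h => hns (h ▸ one_mem C))
  have hz : ∀ y ∈ zpowers (sgl (F := F)), y = 1 ∨ y = sgl := by
    intro y hy
    obtain ⟨n, rfl⟩ := mem_zpowers_iff.mp hy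
    rcases Int.even_or_odd n with ⟨l, rfl⟩ | ⟨l, rfl⟩
    · left; rw [_root_.zpow_add, ← Commute.mul_zpow (Commute.refl _), sgl_mul_self, _root_.one_zpow]
    · right; rw [_root_.zpow_add, _root_.zpow_mul, _root_.zpow_one,
        show (sgl : GL (Fin 2) F) ^ (2 : ℤ) = 1 from (_root_.zpow_two _).trans sgl_mul_self, _root_.one_zpow, one_mul]
  have hinf : C ⊓ zpowers (sgl (F := F)) = ⊥ := by
    rw [eq_bot_iff]
    rintro y ⟨hy, hy'⟩
    rcases hz y hy' with rfl | rfl
    · exact one_mem _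
    · exact absurd hy hns
  have hdec : ∀ e ∈ C ⊔ zpowers (sgl (F := F)), ∃ c ∈ C, e = c ∨ e = c * sgl := by
    intro e he
    rw [← SetLike.mem_coe, Subgroup.coe_mul_of_right_le_normalizer_left _ _ hTn, Set.mem_mul] at he
    obtain ⟨c, hc, y, hy, rfl⟩ := he
    rcases hz y hy with rfl | rfl
    · exact ⟨c, hc, Or.inl (mul_one c)⟩
    · exact ⟨c, hc, Or.inr rfl⟩
  refine ⟨C, C ⊔ zpowers sgl, c₀, j, le_sup_left, mem_sup_right (mem_zpowers _), ?_, hdec, ?_, hcomm, ?_,
    hc₀, hdc₀, hj, hdj, hsq⟩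
  · have h := Cfsg.Lib.Coprime.card_sup_mul_card_inf hTn
    rw [hinf, card_bot, mul_one, Nat.card_zpowers, hord, hCc] at h
    exact h.trans (pow_succ _ _).symm
  · intro e he
    obtain ⟨c, hc, rfl | rfl⟩ := hdec e he
    · exact hdet _ hc
    · rw [map_mul, det_sgl]
      rcases hdet c hc with h | h <;> simp [h]
  · intro c hc
    have h1 : Commute c₀ ⁅sgl (F := F), c⁆ :=
      rotGL_comm _ (hCR hc₀) _ (by
        rw [commutatorElement_def]; exact mul_mem (hCR (hsC c hc)) (inv_mem (hCR hc)))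
    calc ⁅c₀ * sgl, c⁆ = c₀ * ⁅sgl (F := F), c⁆ * (c * c₀⁻¹ * c⁻¹) := by
          simp only [commutatorElement_def, _root_.mul_inv_rev]; group
      _ = c₀ * ⁅sgl (F := F), c⁆ * c₀⁻¹ := by
          rw [rotGL_comm c (hCR hc) c₀⁻¹ (inv_mem (hCR hc₀)), mul_inv_cancel_right]
      _ = ⁅sgl (F := F), c⁆ := by rw [h1.eq, mul_inv_cancel_right]

omit hF h4

/-- The determinant of a tuple. -/
def detProd (m : ℕ) : (Fin m → GL (Fin 2) F) →* Fˣ where
  toFun f := ∏ i, GeneralLinearGroup.det (f i)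
  map_one' := by simp
  map_mul' f f' := by simp [Finset.prod_mul_distrib]

theorem detProd_single (i : Fin m) (e : GL (Fin 2) F) :
    detProd m (Pi.mulSingle i e) = GeneralLinearGroup.det e := by
  show ∏ l, GeneralLinearGroup.det ((Pi.mulSingle i e : Fin m → GL (Fin 2) F) l) = _
  rw [Finset.prod_eq_single i (fun l _ hl => by simp [hl]) (by simp), Pi.mulSingle_eq_same]

theorem detProd_coe (f : Fin m → GL (Fin 2) F) :
    ((detProd m f : Fˣ) : F) = ∏ i, (f i : Matrix (Fin 2) (Fin 2) F).det := by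
  show ((∏ i, GeneralLinearGroup.det (f i) : Fˣ) : F) = _
  rw [Units.coe_prod]
  rfl

include hF h4

/-- Even degree. -/
theorem squaresComm_SL_even (hm : 1 ≤ m) : SquaresComm (SpecialLinearGroup (Fin m ⊕ Fin m) F) := by
  haveI : Fact (Nat.Prime 2) := ⟨Nat.prime_two⟩
  obtain ⟨C, E, c₀, j, hCE, hsE, hEc, hdec, hdetE, hcomm, hcom₀, hc₀, hdc₀, hj, hdj, hsq⟩ := exists_gl_group hF h4
  set M : Subgroup (Fin m → GL (Fin 2) F) := (Subgroup.pi Set.univ fun _ => E) ⊓ (detProd m).ker with hMdef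
  have hmem : ∀ f, f ∈ M ↔ (∀ i, f i ∈ E) ∧ detProd m f = 1 := fun f => by
    simp [hMdef, Subgroup.mem_pi, MonoidHom.mem_ker]
  have hsingE : ∀ (i : Fin m) (e), e ∈ E → ∀ l, (Pi.mulSingle i e : Fin m → _) l ∈ E := fun i e he l => by
    by_cases hl : l = i
    · subst hl; simpa using he
    · simp [hl, one_mem]
  have hsing : ∀ i e, e ∈ E → GeneralLinearGroup.det e = 1 → Pi.mulSingle i e ∈ M := fun i e he hd =>
    (hmem _).mpr ⟨hsingE i e he, by rw [detProd_single, hd]⟩
  obtain ⟨i₀⟩ : Nonempty (Fin m) := ⟨⟨0, hm⟩⟩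
  let s : Fin m → (Fin m → GL (Fin 2) F) := fun i => Pi.mulSingle i sgl
  let g : Set (Fin m → GL (Fin 2) F) :=
    {f | (∃ i, ∃ c ∈ C, GeneralLinearGroup.det c = 1 ∧ f = Pi.mulSingle i c) ∨
      (∃ i, f = Pi.mulSingle i (c₀ * sgl)) ∨ ∃ i, f = s i * s i₀}
  have hgM : ∀ f ∈ g, f ∈ M := by
    rintro f (⟨i, c, hc, hd, rfl⟩ | ⟨i, rfl⟩ | ⟨i, rfl⟩)
    · exact hsing i c (hCE hc) hd
    · exact hsing i _ (mul_mem (hCE hc₀) hsE) (by rw [map_mul, hdc₀, det_sgl]; simp)
    · exact (hmem _).mpr ⟨fun l => mul_mem (hsingE i _ hsE l) (hsingE i₀ _ hsE l),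
        by rw [map_mul, detProd_single, detProd_single, det_sgl]; simp⟩
  set H := Subgroup.closure g with hH
  have hone : ∀ i e, e ∈ E → GeneralLinearGroup.det e = 1 → Pi.mulSingle i e ∈ H := by
    intro i e he hd
    obtain ⟨c, hc, rfl | rfl⟩ := hdec e he
    · exact Subgroup.subset_closure (Or.inl ⟨i, _, hc, hd, rfl⟩)
    · rw [map_mul, det_sgl] at hd
      have hdc : GeneralLinearGroup.det c = -1 := by
        have := congrArg (· * (-1 : Fˣ)) hd
        simpa using this
      rw [show c * sgl = (c * c₀⁻¹) * (c₀ * sgl) by group, Pi.mulSingle_mul]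
      exact mul_mem (Subgroup.subset_closure (Or.inl ⟨i, _, mul_mem hc (inv_mem hc₀),
        by rw [map_mul, map_inv, hdc, hdc₀, mul_inv_cancel], rfl⟩)) (Subgroup.subset_closure (Or.inr (Or.inl ⟨i, rfl⟩)))
  have hss : ∀ i, s i * s i = 1 := fun i => by rw [← Pi.mulSingle_mul, sgl_mul_self, Pi.mulSingle_one]
  have hnorm : zpowers (s i₀) ≤ normalizer (H : Set (Fin m → GL (Fin 2) F)) := by
    rw [zpowers_le, mem_normalizer_iff]
    have key : ∀ y ∈ H, s i₀ * y * (s i₀)⁻¹ ∈ H := by
      have hle : H ≤ H.comap (MulAut.conj (s i₀)).toMonoidHom := by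
        rw [hH, Subgroup.closure_le]
        rintro f (⟨i, c, hc, hd, rfl⟩ | ⟨i, rfl⟩ | ⟨i, rfl⟩) <;>
          simp only [SetLike.mem_coe, mem_comap, MulEquiv.coe_toMonoidHom, MulAut.conj_apply]
        · by_cases hi : i = i₀
          · subst hi
            simp only [s, ← Pi.mulSingle_inv, ← Pi.mulSingle_mul]
            exact hone _ _ (mul_mem (mul_mem hsE (hCE hc)) (inv_mem hsE)) (by
              rw [map_mul, map_mul, map_inv, hd, mul_one, mul_inv_cancel])
          · simp only [s]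
            rw [(Pi.mulSingle_commute (f := fun _ : Fin m => GL (Fin 2) F) (Ne.symm hi) sgl c).eq, mul_inv_cancel_right]
            exact Subgroup.subset_closure (Or.inl ⟨i, c, hc, hd, rfl⟩)
        · by_cases hi : i = i₀
          · subst hi
            simp only [s, ← Pi.mulSingle_inv, ← Pi.mulSingle_mul]
            exact hone _ _ (mul_mem (mul_mem hsE (mul_mem (hCE hc₀) hsE)) (inv_mem hsE)) (by
              rw [map_mul, map_mul, map_mul, map_inv, hdc₀, det_sgl]; simp)
          · simp only [s]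
            rw [(Pi.mulSingle_commute (f := fun _ : Fin m => GL (Fin 2) F) (Ne.symm hi) sgl (c₀ * sgl)).eq, mul_inv_cancel_right]
            exact Subgroup.subset_closure (Or.inr (Or.inl ⟨i, rfl⟩))
        · have hc' : Commute (s i₀) (s i * s i₀) := by
            by_cases hi : i = i₀
            · subst hi; exact (Commute.refl _).mul_right (Commute.refl _)
            · exact (Pi.mulSingle_commute (f := fun _ : Fin m => GL (Fin 2) F) (Ne.symm hi) sgl sgl).mul_right (Commute.refl _)
          rw [hc'.eq, mul_inv_cancel_right]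
          exact Subgroup.subset_closure (Or.inr (Or.inr ⟨i, rfl⟩))
      exact fun y hy => hle hy
    refine fun y => ⟨key y, fun hy => ?_⟩
    have := key _ hy
    have hi' : (s i₀)⁻¹ = s i₀ := inv_eq_of_mul_eq_one_right (hss i₀)
    rwa [hi', show s i₀ * (s i₀ * y * s i₀) * s i₀ = (s i₀ * s i₀) * y * (s i₀ * s i₀) by group,
      hss, one_mul, mul_one] at this
  have hall : (Subgroup.pi Set.univ fun _ : Fin m => E) ≤ H ⊔ zpowers (s i₀) := by
    rw [Subgroup.pi_le_iff]
    intro i
    rintro _ ⟨e, he, rfl⟩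
    show Pi.mulSingle i e ∈ H ⊔ zpowers (s i₀)
    rcases hdetE e he with hd | hd
    · exact mem_sup_left (hone i e he hd)
    · rw [show e = (e * sgl) * sgl by rw [mul_assoc, sgl_mul_self, mul_one], Pi.mulSingle_mul]
      refine mul_mem (mem_sup_left (hone i _ (mul_mem he hsE) (by rw [map_mul, hd, det_sgl]; simp))) ?_
      rw [show (Pi.mulSingle i sgl : Fin m → GL (Fin 2) F) = (s i * s i₀) * s i₀ by
        rw [mul_assoc, hss, mul_one]]
      exact mul_mem (mem_sup_left (Subgroup.subset_closure (Or.inr (Or.inr ⟨i, rfl⟩)))) (mem_sup_right (mem_zpowers _))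
  have hHle : H ≤ M := (Subgroup.closure_le _).mpr hgM
  have hgen : Subgroup.closure g = M := by
    refine le_antisymm hHle fun f hf => ?_
    have h := hall (fun i _ => ((hmem f).mp hf).1 i)
    rw [← SetLike.mem_coe, Subgroup.coe_mul_of_right_le_normalizer_left _ _ hnorm, Set.mem_mul] at h
    obtain ⟨a, ha, y, hy, rfl⟩ := h
    obtain ⟨n, rfl⟩ := mem_zpowers_iff.mp hy
    rcases Int.even_or_odd n with ⟨l, rfl⟩ | ⟨l, rfl⟩
    · rw [_root_.zpow_add, ← Commute.mul_zpow (Commute.refl _), hss, _root_.one_zpow, mul_one]; exact ha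
    · exfalso
      have h1 := ((hmem _).mp hf).2
      rw [map_mul, ((hmem a).mp (hHle ha)).2, one_mul, map_zpow, detProd_single, det_sgl] at h1
      rw [Odd.neg_one_zpow (odd_two_mul_add_one l)] at h1
      exact neg_one_ne_one (Cfsg.Lib.Classical.Refl.two_ne_zero_of_odd hF) h1
  obtain ⟨g', hg', hsq'⟩ := gens_inside M g hgen (by
    have hA : ∀ i c, c ∈ C → GeneralLinearGroup.det c = 1 →
        (Pi.mulSingle i c : Fin m → GL (Fin 2) F) ^ 2 ∈ ⁅M, M⁆ := by
      intro i c hc hd
      have h1 := commutator_single i M (hsing i (c₀ * sgl) (mul_mem (hCE hc₀) hsE)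
        (by rw [map_mul, hdc₀, det_sgl]; simp)) (hsing i c (hCE hc) hd)
      rw [hcom₀ c hc] at h1
      have h2 := hcomm c hc _ h1
      rw [mem_comap, map_pow] at h2
      exact h2
    rintro f (⟨i, c, hc, hd, rfl⟩ | ⟨i, rfl⟩ | ⟨i, rfl⟩)
    · exact hA i c hc hd
    · rw [pow_two, ← Pi.mulSingle_mul, hsq, Pi.mulSingle_mul, ← pow_two]
      exact hA i j hj hdj
    · have hc' : Commute (s i) (s i₀) := by
        by_cases hi : i = i₀
        · subst hi; exact Commute.refl _
        · exact Pi.mulSingle_commute (f := fun _ : Fin m => GL (Fin 2) F) hi sgl sgl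
      rw [hc'.mul_pow, pow_two, pow_two, hss, hss, one_mul]
      exact one_mem _)
  have hperm : ∀ f ∈ M, ∀ σ : Equiv.Perm (Fin m), f ∘ σ ∈ M := fun f hf σ => by
    refine (hmem _).mpr ⟨fun i => ((hmem f).mp hf).1 (σ i), ?_⟩
    rw [← ((hmem f).mp hf).2]
    exact Equiv.prod_comp σ (fun i => GeneralLinearGroup.det (f i))
  let b : M →* SpecialLinearGroup (Fin m ⊕ Fin m) F :=
    { toFun := fun f => ⟨blk fun i => (f.1 i : Matrix (Fin 2) (Fin 2) F), by
        rw [det_blk, ← detProd_coe, ((hmem _).mp f.2).2, Units.val_one]⟩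
      map_one' := Subtype.ext (map_one blk)
      map_mul' := fun f f' => Subtype.ext (map_mul blk _ _) }
  let τ : Equiv.Perm (Fin m) →* SpecialLinearGroup (Fin m ⊕ Fin m) F :=
    { toFun := fun σ => ⟨top σ, det_top σ⟩
      map_one' := Subtype.ext (map_one top)
      map_mul' := fun σ σ' => Subtype.ext (map_mul top _ _) }
  refine squaresComm_wreath M hperm b
    (fun f f' h => Subtype.ext (funext fun i => Units.ext
      (congrFun (blk_injective (congrArg Subtype.val h)) i))) τ
    (fun f σ => Subtype.ext (top_mul_blk σ _)) (fun f σ h => blk_eq_top _ σ (congrArg Subtype.val h))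
    g' hg' hsq' ((padicValNat 2 (Fintype.card F ^ 2 - 1) + 1) * m - 1) ?_ ?_
  · -- index two in the full product
    set P : Subgroup (Fin m → GL (Fin 2) F) := Subgroup.pi Set.univ fun _ => E
    have h := card_mul_index ((detProd m).comp P.subtype).ker
    have h2 : (2 : F) ≠ 0 := Cfsg.Lib.Classical.Refl.two_ne_zero_of_odd hF
    have hrange : ((detProd m).comp P.subtype).range = zpowers (-1 : Fˣ) := by
      refine le_antisymm ?_ ?_
      · rintro _ ⟨f, rfl⟩
        show (∏ i, GeneralLinearGroup.det ((f : Fin m → GL (Fin 2) F) i)) ∈ zpowers (-1 : Fˣ)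
        refine prod_mem fun i _ => ?_
        rcases hdetE _ ((Subgroup.mem_pi _).mp f.2 i (Set.mem_univ i)) with hd | hd <;> rw [hd]
        · exact one_mem _
        · exact mem_zpowers _
      · rw [zpowers_le]
        exact ⟨⟨Pi.mulSingle i₀ sgl, fun l _ => hsingE i₀ _ hsE l⟩, (detProd_single i₀ sgl).trans det_sgl⟩
    rw [index_ker, hrange, Nat.card_zpowers, orderOf_eq_prime (p := 2) (by rw [pow_two]; simp) (neg_one_ne_one h2),
      card_pi_const, hEc, ← pow_mul, ← card_map_of_injective P.subtype_injective,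
      ← MonoidHom.comap_ker, map_comap_eq, range_subtype] at h
    change Nat.card ↥M * 2 = _ at h
    have h' : 0 < (padicValNat 2 (Fintype.card F ^ 2 - 1) + 1) * m := Nat.mul_pos (by omega) hm
    obtain ⟨e, he⟩ : ∃ e, (padicValNat 2 (Fintype.card F ^ 2 - 1) + 1) * m = e + 1 := ⟨_, (Nat.sub_add_cancel h').symm⟩
    rw [he, pow_succ] at h
    rw [he, Nat.add_sub_cancel]
    omega
  · have h := padic_card_SL hF (Fin m ⊕ Fin m) (n := 2 * m) (by simp; ring) (by omega)
    rw [(padic_gl_prod hF h4 m).2.1, padic_two_of_mod_four (n := Fintype.card F - 1) (by omega)] at h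
    have h' : 0 < (padicValNat 2 (Fintype.card F ^ 2 - 1) + 1) * m := Nat.mul_pos (by omega) hm
    rw [mul_comm m] at h
    omega

/-- Odd degree. -/
theorem squaresComm_SL_odd : SquaresComm (SpecialLinearGroup ((Fin m ⊕ Fin m) ⊕ Unit) F) := by
  haveI : Fact (Nat.Prime 2) := ⟨Nat.prime_two⟩
  obtain ⟨C, E, c₀, j, hCE, hsE, hEc, hdec, -, hcomm, -, -, -, -, -, -⟩ := exists_gl_group hF h4
  set M : Subgroup (Fin m → GL (Fin 2) F) := Subgroup.pi Set.univ fun _ => E with hMdef
  have hmem : ∀ f, f ∈ M ↔ ∀ i, f i ∈ E := fun f => by simp [hMdef, Subgroup.mem_pi]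
  have hsing : ∀ i e, e ∈ E → (Pi.mulSingle i e : Fin m → _) ∈ M := fun i e he => (hmem _).mpr fun l => by
    by_cases hl : l = i
    · subst hl; simpa using he
    · simp [hl, one_mem]
  let g : Set (Fin m → GL (Fin 2) F) := {f | ∃ i, ∃ c, (c ∈ C ∨ c = sgl) ∧ f = Pi.mulSingle i c}
  obtain ⟨g', hg', hsq'⟩ := gens_inside M g (by
      refine le_antisymm ((Subgroup.closure_le _).mpr ?_) ?_
      · rintro _ ⟨i, c, hc, rfl⟩
        exact hsing i c (hc.elim (fun h => hCE h) (fun h => h ▸ hsE))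
      · rw [hMdef, Subgroup.pi_le_iff]
        intro i
        rintro _ ⟨e, he, rfl⟩
        show Pi.mulSingle i e ∈ Subgroup.closure g
        obtain ⟨c, hc, rfl | rfl⟩ := hdec e he
        · exact Subgroup.subset_closure ⟨i, _, Or.inl hc, rfl⟩
        · rw [Pi.mulSingle_mul]
          exact mul_mem (Subgroup.subset_closure ⟨i, c, Or.inl hc, rfl⟩) (Subgroup.subset_closure ⟨i, _, Or.inr rfl, rfl⟩))
    (by
      rintro _ ⟨i, c, hc | rfl, rfl⟩
      · have h2 := hcomm c hc _ (commutator_single i M (hsing i _ hsE) (hsing i c (hCE hc)))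
        rw [mem_comap, map_pow] at h2
        exact h2
      · rw [pow_two, ← Pi.mulSingle_mul, sgl_mul_self, Pi.mulSingle_one]
        exact one_mem _)
  let cor : (Fin m → GL (Fin 2) F) →* Matrix Unit Unit F :=
    { toFun := fun f => diagonal fun _ => (((detProd m f)⁻¹ : Fˣ) : F)
      map_one' := by simp
      map_mul' := fun f f' => by rw [diagonal_mul_diagonal]; simp [mul_comm] }
  let b : M →* SpecialLinearGroup ((Fin m ⊕ Fin m) ⊕ Unit) F :=
    { toFun := fun f => ⟨fromBlocks (blk fun i => (f.1 i : Matrix (Fin 2) (Fin 2) F)) 0 0 (cor f.1), by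
        rw [det_fromBlocks_zero₂₁, det_blk, ← detProd_coe]
        show _ * (diagonal fun _ : Unit => (((detProd m f.1)⁻¹ : Fˣ) : F)).det = 1
        rw [det_diagonal]
        simp⟩
      map_one' := Subtype.ext (by
        show fromBlocks (blk 1) 0 0 (cor 1) = 1
        rw [map_one, map_one, fromBlocks_one])
      map_mul' := fun f f' => Subtype.ext (by
        show fromBlocks (blk ((fun i => (f.1 i : Matrix (Fin 2) (Fin 2) F)) * fun i => (f'.1 i : Matrix (Fin 2) (Fin 2) F)))
            0 0 (cor (f.1 * f'.1)) = fromBlocks _ 0 0 (cor f.1) * fromBlocks _ 0 0 (cor f'.1)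
        rw [map_mul, map_mul, fromBlocks_multiply]
        simp) }
  let τ : Equiv.Perm (Fin m) →* SpecialLinearGroup ((Fin m ⊕ Fin m) ⊕ Unit) F :=
    { toFun := fun σ => ⟨fromBlocks (top σ) 0 0 1, by rw [det_fromBlocks_zero₂₁, det_top, det_one, one_mul]⟩
      map_one' := Subtype.ext (by
        show fromBlocks (top 1) 0 0 1 = 1
        rw [map_one, fromBlocks_one])
      map_mul' := fun σ σ' => Subtype.ext (by
        show fromBlocks (top (σ * σ')) 0 0 1 = fromBlocks (top σ) 0 0 1 * fromBlocks (top σ') 0 0 1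
        rw [map_mul, fromBlocks_multiply]
        simp) }
  refine squaresComm_wreath M (fun f hf σ => (hmem _).mpr fun i => (hmem _).mp hf (σ i)) b
    (fun f f' h => Subtype.ext (funext fun i => Units.ext
      (congrFun (blk_injective (fromBlocks_inj.mp (congrArg Subtype.val h)).1) i))) τ
    (fun f σ => Subtype.ext (by
      show fromBlocks (top σ) 0 0 1 * fromBlocks _ 0 0 (cor f.1) =
        fromBlocks _ 0 0 (cor (f.1 ∘ σ.symm)) * fromBlocks (top σ) 0 0 1
      have hd : detProd m (f.1 ∘ σ.symm) = detProd m f.1 :=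
        Equiv.prod_comp σ.symm (fun i => GeneralLinearGroup.det (f.1 i))
      have hcor : cor (f.1 ∘ σ.symm) = cor f.1 := by
        show (diagonal fun _ : Unit => (((detProd m (f.1 ∘ σ.symm))⁻¹ : Fˣ) : F)) = _
        rw [hd]; rfl
      rw [fromBlocks_multiply, fromBlocks_multiply, hcor]
      simp only [Matrix.zero_mul, Matrix.mul_zero, add_zero, zero_add, Matrix.one_mul, Matrix.mul_one]
      rw [top_mul_blk]
      rfl))
    (fun f σ h => blk_eq_top _ σ (fromBlocks_inj.mp (congrArg Subtype.val h)).1)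
    g' hg' hsq' ((padicValNat 2 (Fintype.card F ^ 2 - 1) + 1) * m) ?_ ?_
  · rw [hMdef, card_pi_const, hEc, ← pow_mul]
  · have h := padic_card_SL hF ((Fin m ⊕ Fin m) ⊕ Unit) (n := 2 * m + 1) (by simp; ring) (by omega)
    have hP := padic_gl_prod hF h4 m
    rw [Finset.prod_range_succ, padicValNat.mul hP.1 (pow_sub_ne Fintype.one_lt_card (by omega)), hP.2.1, hP.2.2,
      padic_two_of_mod_four (n := Fintype.card F - 1) (by omega), mul_comm m] at h
    omega

end Cfsg.Lib.WreathSylowTwo
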