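import Cfsg.Agent.Classical.WreathSylowTwo.Main

/-!
# Monomial Sylow 2-subgroups of special linear groups of 2-power degree
-/

set_option autoImplicit false
set_option linter.unusedSectionVars false
set_option linter.style.haveILetI false

namespace Cfsg.Lib.WreathSylowTwo

open Matrix Subgroup Cfsg.Lib.OrthSylowTwo
open scoped commutatorElement

universe u

variable {F : Type u} [Field F] {n : ℕ}

/-- Diagonal matrices. -/
def diagHom : (Fin n → Fˣ) →* Matrix (Fin n) (Fin n) F where
  toFun f := diagonal fun i => (f i : F)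
  map_one' := by simp
  map_mul' f g := by rw [diagonal_mul_diagonal]; simp

/-- Permutation matrices. -/
def pmatHom : Equiv.Perm (Fin n) →* Matrix (Fin n) (Fin n) F where
  toFun := pmat
  map_one' := by simp [pmat]
  map_mul' σ τ := by simp [pmat, Matrix.permMatrix_mul]

theorem pmat_mul_diag (σ : Equiv.Perm (Fin n)) (f : Fin n → Fˣ) :
    pmatHom σ * diagHom f = diagHom (f ∘ σ.symm) * (pmatHom σ : Matrix (Fin n) (Fin n) F) := by
  ext a b
  show ((pmat σ : Matrix (Fin n) (Fin n) F) * diagonal (fun i => (f i : F)) : Matrix (Fin n) (Fin n) F) a b = ((diagonal (fun i => ((f ∘ σ.symm) i : F)) * (pmat σ : Matrix (Fin n) (Fin n) F) : Matrix (Fin n) (Fin n) F)) a b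
  rw [mul_diagonal, diagonal_mul, pmat_apply]
  by_cases hab : a = σ b
  · subst hab; simp
  · simp [hab]

/-- A Sylow 2-subgroup of a symmetric group of 2-power degree is transitive. -/
theorem sylow_transitive {k : ℕ} (W : Subgroup (Equiv.Perm (Fin (2 ^ k))))
    (hW : Nat.card W = 2 ^ padicValNat 2 (2 ^ k).factorial) (i j : Fin (2 ^ k)) : ∃ σ ∈ W, σ i = j := by
  classical
  haveI : Fact (Nat.Prime 2) := ⟨Nat.prime_two⟩
  have key : Nat.card (MulAction.stabilizer W i) ∣ (2 ^ k - 1).factorial := by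
    let f : MulAction.stabilizer W i →* Equiv.Perm {x : Fin (2 ^ k) // x ≠ i} :=
      { toFun := fun s => Equiv.Perm.subtypePerm (s.1.1) (fun x => by
          have hs : (s.1.1 : Equiv.Perm (Fin (2 ^ k))) i = i := s.2
          constructor
          · intro h e; exact h (by rw [e, hs])
          · intro h e; exact h (s.1.1.injective (e.trans hs.symm)))
        map_one' := rfl
        map_mul' := fun _ _ => rfl }
    have hf : Function.Injective f := by
      intro a b hab
      refine Subtype.ext (Subtype.ext (Equiv.ext fun x => ?_))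
      by_cases hx : x = i
      · subst hx; exact (a.2 : (a.1.1 : Equiv.Perm _) x = x).trans (b.2 : (b.1.1 : Equiv.Perm _) x = x).symm
      · exact congrArg Subtype.val (Equiv.congr_fun hab ⟨x, hx⟩)
    have h := Subgroup.card_dvd_of_injective f hf
    rwa [Nat.card_perm, Nat.card_eq_fintype_card (α := {x : Fin (2 ^ k) // x ≠ i}), Fintype.card_subtype_compl,
      Fintype.card_subtype_eq, Fintype.card_fin] at h
  have horb : 2 ^ k ≤ Nat.card (MulAction.orbit W i) := by
    have h1 := card_mul_index (MulAction.stabilizer W i)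
    rw [MulAction.index_stabilizer] at h1
    obtain ⟨e, -, he⟩ := (Nat.dvd_prime_pow Nat.prime_two).mp (hW ▸ card_subgroup_dvd_card (MulAction.stabilizer W i))
    rw [he] at key
    have hle := (padicValNat_dvd_iff_le (Nat.factorial_ne_zero _)).mp key
    have hsplit := factorial_split (m := 2 ^ k) (by positivity)
    rw [padicValNat.prime_pow] at hsplit
    have h2 : 2 ^ e * 2 ^ k ≤ 2 ^ e * Nat.card (MulAction.orbit W i) := by
      rw [← pow_add, show 2 ^ e * Nat.card (MulAction.orbit W i) = Nat.card W by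
        rw [← he]; exact h1, hW]
      exact Nat.pow_le_pow_right two_pos (by omega)
    exact Nat.le_of_mul_le_mul_left h2 (by positivity)
  have hall : MulAction.orbit W i = Set.univ := by
    apply Set.eq_of_subset_of_ncard_le (Set.subset_univ _) ?_ (Set.toFinite _)
    rw [Set.ncard_univ, Nat.card_fin, ← Nat.card_coe_set_eq]
    exact horb
  obtain ⟨s, hs⟩ := hall.ge (Set.mem_univ j)
  exact ⟨s.1, s.2, hs⟩

variable [Fintype F] [DecidableEq F]

theorem padic_prod_one_mod (hF : Odd (Fintype.card F)) (h4 : Fintype.card F % 4 = 1) (n : ℕ) :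
    (∏ j ∈ Finset.range n, (Fintype.card F ^ (j + 1) - 1)) ≠ 0 ∧
      padicValNat 2 (∏ j ∈ Finset.range n, (Fintype.card F ^ (j + 1) - 1)) =
        n * padicValNat 2 (Fintype.card F - 1) + padicValNat 2 n.factorial := by
  haveI : Fact (Nat.Prime 2) := ⟨Nat.prime_two⟩
  set q := Fintype.card F with hq
  have h1 : 1 < q := Fintype.one_lt_card
  have hj : ∀ j, j ≠ 0 → padicValNat 2 (q ^ j - 1) = padicValNat 2 (q - 1) + padicValNat 2 j := by
    intro j hj0
    have e1 := ((padic_plus hF h1 hj0).1 (by rw [Nat.pow_mod, h4]; simp)).2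
    have e2 := ((padic_plus hF h1 one_ne_zero).1 (by rw [pow_one]; exact h4)).2
    rw [pow_one, padicValNat.one] at e2
    omega
  induction n with
  | zero => simp
  | succ n ih =>
    rw [Finset.prod_range_succ]
    have hne : q ^ (n + 1) - 1 ≠ 0 := pow_sub_ne h1 (by omega)
    refine ⟨mul_ne_zero ih.1 hne, ?_⟩
    rw [padicValNat.mul ih.1 hne, ih.2, hj _ (by omega), Nat.factorial_succ,
      padicValNat.mul (by omega) (Nat.factorial_ne_zero n)]
    ring

/-- Two-power degree with `q ≡ 1 (mod 4)`. -/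
theorem squaresComm_SL_two_pow (hF : Odd (Fintype.card F)) (h4 : Fintype.card F % 4 = 1) (k : ℕ) :
    SquaresComm (SpecialLinearGroup (Fin (2 ^ k)) F) := by
  classical
  haveI : Fact (Nat.Prime 2) := ⟨Nat.prime_two⟩
  have h2 : (2 : F) ≠ 0 := Cfsg.Lib.Classical.Refl.two_ne_zero_of_odd hF
  set n := 2 ^ k with hn
  set a := padicValNat 2 (Fintype.card F - 1) with ha
  obtain ⟨Z, -, hZ2, hZc, hZmem⟩ := exists_two_part (⊤ : Subgroup Fˣ) (fun x _ y _ => mul_comm x y)
  rw [card_top, Nat.card_units, Nat.card_eq_fintype_card (α := F), Nat.factorization_def _ Nat.prime_two, ← ha] at hZc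
  -- a square root of `-1`
  obtain ⟨u, huZ, hu⟩ : ∃ u ∈ Z, u * u = -1 := by
    obtain ⟨r, hr⟩ : IsSquare (-1 : F) := FiniteField.isSquare_neg_one_iff.mpr (by omega)
    have hr0 : r ≠ 0 := fun h => by simp [h] at hr
    refine ⟨Units.mk0 r hr0, hZmem _ (mem_top _) 2 (Units.ext ?_), Units.ext (by simp [← hr])⟩
    rw [Units.val_pow_eq_pow_val, Units.val_mk0, show (2 : ℕ) ^ 2 = 2 + 2 from rfl, pow_add, pow_two, ← hr]
    simp
  have hnegZ : (-1 : Fˣ) ∈ Z := hu ▸ mul_mem huZ huZ
  obtain ⟨W, hWc, hWg⟩ := exists_sylow_invol n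
  let B := Subgroup.pi Set.univ fun _ : Fin n => Z
  have hB : ∀ f, f ∈ B ↔ ∀ i, f i ∈ Z := fun f => by simp [B, Subgroup.mem_pi]
  let dG : (Fin n → Fˣ) →* GL (Fin n) F := (diagHom (F := F) (n := n)).toHomUnits
  let pG : Equiv.Perm (Fin n) →* GL (Fin n) F := (pmatHom (F := F) (n := n)).toHomUnits
  have hcomm : ∀ σ f, pG σ * dG f = dG (f ∘ σ.symm) * pG σ := fun σ f => Units.ext (pmat_mul_diag σ f)
  have hdinj : Function.Injective dG := fun f g h => funext fun i => Units.ext (by
    have h' := congrFun (congrFun (congrArg (fun x : GL (Fin n) F => (x : Matrix (Fin n) (Fin n) F)) h) i) i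
    change (diagonal fun l => (f l : F)) i i = (diagonal fun l => (g l : F)) i i at h'
    simpa using h')
  have hsep : ∀ f σ, dG f = pG σ → σ = 1 := by
    intro f σ h
    refine Equiv.ext fun i => ?_
    by_contra hne
    have h' := congrFun (congrFun (congrArg (fun x : GL (Fin n) F => (x : Matrix (Fin n) (Fin n) F)) h) (σ i)) i
    change (diagonal fun l => (f l : F)) (σ i) i = pmat σ (σ i) i at h'
    rw [pmat_apply, if_pos rfl, diagonal_apply_ne _ (show σ i ≠ i from hne)] at h'
    exact zero_ne_one h'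
  -- the monomial two-group
  let T := W.map pG
  let B' := B.map dG
  have hTB : T ≤ normalizer (B' : Set (GL (Fin n) F)) := by
    have hconj : ∀ σ f, f ∈ B → pG σ * dG f * (pG σ)⁻¹ ∈ B' := fun σ f hf => by
      rw [hcomm, mul_inv_cancel_right]; exact ⟨_, (hB _).mpr fun i => (hB f).mp hf (σ.symm i), rfl⟩
    rintro _ ⟨σ, -, rfl⟩
    rw [mem_normalizer_iff]
    intro y
    constructor
    · rintro ⟨f, hf, rfl⟩; exact hconj σ f hf
    · rintro ⟨f, hf, hy⟩
      have := hconj σ⁻¹ f hf
      rw [hy, map_inv] at this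
      simpa [mul_assoc] using this
  have hPdec : ∀ y ∈ B' ⊔ T, ∃ f ∈ B, ∃ σ ∈ W, y = dG f * pG σ := by
    intro y hy
    rw [← SetLike.mem_coe, Subgroup.coe_mul_of_right_le_normalizer_left _ _ hTB, Set.mem_mul] at hy
    obtain ⟨_, ⟨f, hf, rfl⟩, _, ⟨σ, hσ, rfl⟩, rfl⟩ := hy
    exact ⟨f, hf, σ, hσ, rfl⟩
  have hPc : Nat.card ↥(B' ⊔ T) = 2 ^ (a * n + padicValNat 2 n.factorial) := by
    have h := Cfsg.Lib.Coprime.card_sup_mul_card_inf hTB
    have hdis : B' ⊓ T = ⊥ := by
      rw [eq_bot_iff]
      rintro _ ⟨⟨f, -, rfl⟩, σ, -, hσ⟩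
      rw [Subgroup.mem_bot, ← hσ, hsep f σ hσ.symm, map_one]
    have hpinj : Function.Injective pG := by
      rw [← MonoidHom.ker_eq_bot_iff, eq_bot_iff]
      intro σ hσ
      exact hsep 1 σ (by rw [map_one]; exact (MonoidHom.mem_ker.mp hσ).symm)
    rw [hdis, card_bot, mul_one] at h
    rw [h, card_map_of_injective hdinj, card_map_of_injective hpinj, card_pi_const, hZc, hWc, ← pow_mul, ← pow_add]
  have hdetd : ∀ f, GeneralLinearGroup.det (dG f) = ∏ i, f i := fun f => Units.ext (by
    show (diagonal fun i => (f i : F)).det = _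
    rw [det_diagonal, Units.coe_prod])
  have hdetp : ∀ σ, (GeneralLinearGroup.det (pG σ) : Fˣ) = 1 ∨ GeneralLinearGroup.det (pG σ) = -1 := by
    intro σ
    rcases Int.units_eq_one_or (Equiv.Perm.sign σ) with h | h
    · left; refine Units.ext ?_
      show (pmat σ : Matrix (Fin n) (Fin n) F).det = 1
      rw [pmat, Matrix.det_permutation, Equiv.Perm.sign_inv, h]; simp
    · right; refine Units.ext ?_
      show (pmat σ : Matrix (Fin n) (Fin n) F).det = ((-1 : Fˣ) : F)
      rw [pmat, Matrix.det_permutation, Equiv.Perm.sign_inv, h]; simp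
  let ι' : SpecialLinearGroup (Fin n) F →* GL (Fin n) F := SpecialLinearGroup.toGL
  let P := (B' ⊔ T).comap ι'
  have hinj : Function.Injective ι' := Cfsg.Lib.Classical.toGL_injective'
  have hnpos : 0 < n := by positivity
  have hP : Nat.card P * 2 ^ a = 2 ^ (a * n + padicValNat 2 n.factorial) := by
    have h := card_mul_index ((GeneralLinearGroup.det : GL (Fin n) F →* Fˣ).comp (B' ⊔ T).subtype).ker
    have hrange : ((GeneralLinearGroup.det : GL (Fin n) F →* Fˣ).comp (B' ⊔ T).subtype).range = Z := by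
      refine le_antisymm ?_ ?_
      · rintro _ ⟨⟨y, hy⟩, rfl⟩
        obtain ⟨f, hf, σ, hσ, rfl⟩ := hPdec y hy
        show GeneralLinearGroup.det (dG f * pG σ) ∈ Z
        rw [map_mul, hdetd]
        refine mul_mem (prod_mem fun i _ => (hB f).mp hf i) ?_
        rcases hdetp σ with e | e <;> rw [e]
        · exact one_mem _
        · exact hnegZ
      · intro z hz
        refine ⟨⟨dG (Pi.mulSingle ⟨0, hnpos⟩ z), mem_sup_left ⟨_, (hB _).mpr fun i => ?_, rfl⟩⟩, ?_⟩
        · by_cases hi : i = ⟨0, hnpos⟩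
          · subst hi; simpa using hz
          · rw [Pi.mulSingle_eq_of_ne hi]; exact one_mem _
        · show GeneralLinearGroup.det (dG _) = z
          rw [hdetd, Finset.prod_eq_single ⟨0, hnpos⟩ (fun l _ hl => Pi.mulSingle_eq_of_ne hl _) (by simp), Pi.mulSingle_eq_same]
    rw [index_ker, hrange, hZc, hPc, ← card_map_of_injective (B' ⊔ T).subtype_injective,
      ← MonoidHom.comap_ker, map_comap_eq, range_subtype, ← Cfsg.Lib.Classical.range_toGL] at h
    rw [← h, inf_comm (B' ⊔ T), ← map_comap_eq, card_map_of_injective hinj]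
  -- the special diagonal elements
  let d : Fin n → Fin n → Fˣ → (Fin n → Fˣ) := fun i l z => Pi.mulSingle i z * Pi.mulSingle l z⁻¹
  have hdprod : ∀ i l z, ∏ t, d i l z t = 1 := fun i l z => by
    simp only [d, Pi.mul_apply, Finset.prod_mul_distrib]
    rw [Finset.prod_eq_single i (fun t _ ht => by simp [ht]) (by simp),
      Finset.prod_eq_single l (fun t _ ht => by simp [ht]) (by simp)]
    simp
  let sD : {f : Fin n → Fˣ // ∏ t, f t = 1} → SpecialLinearGroup (Fin n) F := fun f =>
    ⟨diagHom f.1, by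
      show (diagonal fun i => (f.1 i : F)).det = 1
      rw [det_diagonal, ← Units.coe_prod, f.2, Units.val_one]⟩
  let dd : Fin n → Fin n → Fˣ → SpecialLinearGroup (Fin n) F := fun i l z => sD ⟨d i l z, hdprod i l z⟩
  have hdd : ∀ i l z, ι' (dd i l z) = dG (d i l z) := fun i l z => Units.ext rfl
  have hdB : ∀ i l z, z ∈ Z → d i l z ∈ B := fun i l z hz => (hB _).mpr fun t => by
    refine mul_mem ?_ ?_
    · by_cases ht : t = i
      · subst ht; simpa using hz
      · simp [ht, one_mem]
    · by_cases ht : t = l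
      · subst ht; simpa using hz
      · simp [ht, one_mem]
  have hddP : ∀ i l z, z ∈ Z → dd i l z ∈ P := fun i l z hz =>
    show ι' (dd i l z) ∈ B' ⊔ T from (hdd i l z) ▸ mem_sup_left ⟨_, hdB i l z hz, rfl⟩
  -- lifts of involutions
  let g : Set (SpecialLinearGroup (Fin n) F) :=
    {x | (∃ i l, ∃ z ∈ Z, x = dd i l z) ∨
      ∃ σ ∈ W, σ * σ = 1 ∧ ∃ i ε, ε ∈ Z ∧ (ε = 1 ∨ (ε = -1 ∧ σ i ≠ i)) ∧ ι' x = dG (Pi.mulSingle i ε) * pG σ}
  have hsingB : ∀ i z, z ∈ Z → (Pi.mulSingle i z : Fin n → Fˣ) ∈ B := fun i z hz => (hB _).mpr fun t => by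
    by_cases ht : t = i
    · subst ht; simpa using hz
    · simp [ht, one_mem]
  have hgP : ∀ x ∈ g, x ∈ P := by
    rintro x (⟨i, l, z, hz, rfl⟩ | ⟨σ, hσ, -, i, ε, hε, -, hx⟩)
    · exact hddP i l z hz
    · show ι' x ∈ B' ⊔ T
      rw [hx]
      exact mul_mem (mem_sup_left ⟨_, hsingB i ε hε, rfl⟩) (mem_sup_right ⟨σ, hσ, rfl⟩)
  have hlift : ∀ σ ∈ W, σ * σ = 1 → ∃ x ∈ g, ∃ f ∈ B, ι' x = dG f * pG σ := by
    intro σ hσ hσ2
    have hmk : ∀ i ε, GeneralLinearGroup.det (dG (Pi.mulSingle i ε) * pG σ) = 1 →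
        ∃ x, ι' x = dG (Pi.mulSingle i ε) * pG σ := fun i ε h => by
      have hm : dG (Pi.mulSingle i ε) * pG σ ∈ ι'.range := by
        show _ ∈ (SpecialLinearGroup.toGL : SpecialLinearGroup (Fin n) F →* GL (Fin n) F).range
        rw [Cfsg.Lib.Classical.range_toGL, MonoidHom.mem_ker]; exact h
      exact hm
    have hsdet : ∀ i ε, GeneralLinearGroup.det (dG (Pi.mulSingle i ε)) = ε := fun i ε => by
      rw [hdetd, Finset.prod_eq_single i (fun l _ hl => by simp [hl]) (by simp), Pi.mulSingle_eq_same]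
    rcases hdetp σ with e | e
    · obtain ⟨x, hx⟩ := hmk ⟨0, hnpos⟩ 1 (by rw [map_mul, hsdet, e, one_mul])
      exact ⟨x, Or.inr ⟨σ, hσ, hσ2, _, _, one_mem Z, Or.inl rfl, hx⟩, _, hsingB _ _ (one_mem Z), hx⟩
    · obtain ⟨i, hi⟩ : ∃ i, σ i ≠ i := by
        by_contra hno
        push Not at hno
        rw [show σ = 1 from Equiv.ext hno, map_one, map_one] at e
        exact neg_one_ne_one h2 e.symm
      obtain ⟨x, hx⟩ := hmk i (-1) (by rw [map_mul, hsdet, e]; simp)
      exact ⟨x, Or.inr ⟨σ, hσ, hσ2, _, _, hnegZ, Or.inr ⟨rfl, hi⟩, hx⟩, _, hsingB _ _ hnegZ, hx⟩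
  have hgen : Subgroup.closure g = P := by
    refine le_antisymm ((Subgroup.closure_le _).mpr hgP) fun x hx => ?_
    set H := Subgroup.closure g
    obtain ⟨f, hf, σ, hσ, hxe⟩ := hPdec (ι' x) hx
    have hW' : ∀ τ ∈ W, ∃ y ∈ H, ∃ f' ∈ B, ι' y = dG f' * pG τ := by
      intro τ hτ
      rw [← hWg] at hτ
      induction hτ using Subgroup.closure_induction with
      | mem s hs =>
        obtain ⟨y, hy, f', hf', he⟩ := hlift s hs.1 hs.2
        exact ⟨y, Subgroup.subset_closure hy, f', hf', he⟩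
      | one => exact ⟨1, one_mem H, 1, one_mem B, by rw [map_one, map_one, map_one, one_mul]⟩
      | mul s t _ _ hs ht =>
        obtain ⟨y, hy, f', hf', he⟩ := hs
        obtain ⟨y', hy', f'', hf'', he'⟩ := ht
        refine ⟨y * y', mul_mem hy hy', f' * (f'' ∘ s.symm), mul_mem hf' ((hB _).mpr fun i => (hB _).mp hf'' _), ?_⟩
        rw [map_mul, he, he', map_mul, map_mul,
          show dG f' * pG s * (dG f'' * pG t) = dG f' * (pG s * dG f'') * pG t by group, hcomm]
        group
      | inv s _ hs =>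
        obtain ⟨y, hy, f', hf', he⟩ := hs
        refine ⟨y⁻¹, inv_mem hy, f'⁻¹ ∘ s, (hB _).mpr fun i => inv_mem ((hB _).mp hf' _), ?_⟩
        rw [map_inv, he, _root_.mul_inv_rev, ← map_inv, ← map_inv, hcomm]
        rfl
    obtain ⟨y, hy, f', hf', hye⟩ := hW' σ hσ
    have hq : ι' (x * y⁻¹) = dG (f * f'⁻¹) := by
      rw [map_mul, map_inv, hxe, hye, map_mul, map_inv]; group
    have hprod : ∏ t, (f * f'⁻¹) t = 1 := by
      rw [← hdetd, ← hq]
      exact Units.ext (x * y⁻¹).2
    suffices x * y⁻¹ ∈ H by simpa using mul_mem this hy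
    set l₀ : Fin n := ⟨0, hnpos⟩
    let ψ : (Fin n → Fˣ) →* GL (Fin n) F :=
      { toFun := fun h => dG (h * Pi.mulSingle l₀ (∏ t, h t)⁻¹)
        map_one' := by simp
        map_mul' := fun h h' => by
          rw [← map_mul]; congr 1
          simp only [Pi.mul_apply, Finset.prod_mul_distrib, _root_.mul_inv, Pi.mulSingle_mul]
          exact mul_mul_mul_comm _ _ _ _ }
    have hψ : B ≤ (H.map ι').comap ψ := by
      rw [Subgroup.pi_le_iff]
      intro i
      rintro _ ⟨z, hz, rfl⟩
      refine ⟨dd i l₀ z, Subgroup.subset_closure (Or.inl ⟨i, l₀, z, hz, rfl⟩), ?_⟩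
      show ι' (dd i l₀ z) = dG (Pi.mulSingle i z * Pi.mulSingle l₀ (∏ t, (Pi.mulSingle i z : Fin n → Fˣ) t)⁻¹)
      rw [hdd, Finset.prod_eq_single i (fun t _ ht => by simp [ht]) (by simp), Pi.mulSingle_eq_same]
    obtain ⟨h, hh, he⟩ := hψ (mul_mem hf (inv_mem hf'))
    have he' : ι' h = ι' (x * y⁻¹) := by
      rw [hq, he]
      show dG _ = _
      rw [hprod]; simp
    exact hinj he' ▸ hh
  refine squaresComm_of_gens P g hgen ?_ ?_
  · -- squares
    set C := ⁅P, P⁆
    have hmul : ∀ i j l z, dd i j z * dd j l z = dd i l z := fun i j l z => hinj (by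
      rw [map_mul, hdd, hdd, hdd, ← map_mul]
      congr 1
      simp only [d, Pi.mulSingle_inv]
      group)
    have hRel : ∀ σ ∈ W, ∀ i, ∀ z ∈ Z, dd i (σ i) z ^ 2 ∈ C := by
      intro σ hσ
      rw [← hWg] at hσ
      induction hσ using Subgroup.closure_induction with
      | mem s hs =>
        intro i z hz
        obtain ⟨L, hL, f, hf, hLe⟩ := hlift s hs.1 hs.2
        have h1 : ⁅L, dd i (s i) z⁻¹⁆ ∈ C := commutator_mem_commutator (hgP L hL) (hddP _ _ _ (inv_mem hz))
        suffices he : ⁅L, dd i (s i) z⁻¹⁆ = dd i (s i) z ^ 2 from he ▸ h1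
        refine hinj ?_
        rw [map_commutatorElement, map_pow, hdd, hdd, hLe, commutatorElement_def, _root_.mul_inv_rev,
          show dG f * pG s * dG (d i (s i) z⁻¹) * ((pG s)⁻¹ * (dG f)⁻¹) =
            dG f * (pG s * dG (d i (s i) z⁻¹) * (pG s)⁻¹) * (dG f)⁻¹ by group,
          hcomm, mul_inv_cancel_right, ← map_mul, ← map_inv, ← map_mul, ← map_inv, ← map_mul, ← map_pow]
        congr 1
        have hss : s.symm = s := by
          refine Equiv.ext fun t => s.injective ?_
          rw [Equiv.apply_symm_apply]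
          exact (Equiv.congr_fun hs.2 t).symm
        funext t
        simp only [hss, d, Function.comp_apply, Pi.mul_apply, Pi.inv_apply, Pi.pow_apply]
        have hst : ∀ t', (Pi.mulSingle i z⁻¹ : Fin n → Fˣ) (s t') = (Pi.mulSingle (s i) z⁻¹ : Fin n → Fˣ) t' := by
          intro t'
          by_cases ht : t' = s i
          · subst ht
            have : s (s i) = i := Equiv.congr_fun hs.2 i
            simp [this]
          · have : s t' ≠ i := fun e => ht (by
              have := congrArg s e; rw [show s (s t') = t' from Equiv.congr_fun hs.2 t'] at this; exact this)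
            simp [ht, this]
        have hst' : ∀ t', (Pi.mulSingle (s i) z : Fin n → Fˣ) (s t') = (Pi.mulSingle i z : Fin n → Fˣ) t' := by
          intro t'
          by_cases ht : t' = i
          · subst ht; simp
          · simp [ht, s.injective.ne ht]
        rw [inv_inv, hst, hst']
        simp only [Pi.mulSingle_inv, Pi.inv_apply, inv_inv, pow_two, _root_.mul_inv_rev, mul_inv_cancel_comm]
        ac_rfl
      | one =>
        intro i z _
        have : dd i ((1 : Equiv.Perm (Fin n)) i) z = 1 := hinj (by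
          rw [map_one, hdd]; simp only [d, Equiv.Perm.one_apply]
          rw [← Pi.mulSingle_mul, mul_inv_cancel, Pi.mulSingle_one, map_one])
        rw [this, one_pow]; exact one_mem _
      | mul s t _ _ hs ht =>
        intro i z hz
        rw [show (s * t) i = s (t i) from rfl, ← hmul i (t i) (s (t i)) z]
        have hc : Commute (dd i (t i) z) (dd (t i) (s (t i)) z) := hinj (by
          rw [map_mul, map_mul, hdd, hdd, ← map_mul, ← map_mul, mul_comm])
        rw [hc.mul_pow]
        exact mul_mem (ht i z hz) (hs (t i) z hz)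
      | inv s _ hs =>
        intro i z hz
        have h := hs (s⁻¹ i) z hz
        rw [show s (s⁻¹ i) = i by simp] at h
        have e : dd i (s⁻¹ i) z = (dd (s⁻¹ i) i z)⁻¹ := hinj (by
          rw [map_inv, hdd, hdd, ← map_inv]
          simp only [d, Pi.mulSingle_inv, _root_.mul_inv_rev, inv_inv])
        rw [e, inv_pow]
        exact inv_mem h
    have hAll : ∀ i l, ∀ z ∈ Z, dd i l z ^ 2 ∈ C := by
      intro i l z hz
      obtain ⟨σ, hσ, rfl⟩ := sylow_transitive W hWc i l
      exact hRel σ hσ i z hz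
    rintro x (⟨i, l, z, hz, rfl⟩ | ⟨σ, hσ, hσ2, i, ε, hε, hcase, hx⟩)
    · exact hAll i l z hz
    · rcases hcase with rfl | ⟨rfl, hi⟩
      · rw [show x ^ 2 = 1 from hinj (by
          rw [map_pow, hx, Pi.mulSingle_one, map_one, one_mul, pow_two, ← map_mul, hσ2, map_one, map_one])]
        exact one_mem _
      · suffices he : x ^ 2 = dd i (σ i) u ^ 2 from he ▸ hAll _ _ u huZ
        refine hinj ?_
        rw [map_pow, map_pow, hdd, hx, pow_two,
          show dG (Pi.mulSingle i (-1)) * pG σ * (dG (Pi.mulSingle i (-1)) * pG σ) =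
            dG (Pi.mulSingle i (-1)) * (pG σ * dG (Pi.mulSingle i (-1))) * pG σ by group,
          hcomm, mul_assoc, mul_assoc, ← map_mul pG, hσ2, map_one, mul_one, ← map_mul, ← map_pow]
        congr 1
        have hu' : u⁻¹ * u⁻¹ = -1 := by rw [← _root_.mul_inv_rev, hu, inv_neg, inv_one]
        funext t
        have hst : (Pi.mulSingle i (-1 : Fˣ) : Fin n → Fˣ) (σ.symm t) = (Pi.mulSingle (σ i) (-1) : Fin n → Fˣ) t := by
          by_cases ht : t = σ i
          · subst ht; simp
          · simp [ht, show σ.symm t ≠ i from fun e => ht (by rw [← e, Equiv.apply_symm_apply])]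
        simp only [Pi.mul_apply, Function.comp_apply, hst, Pi.pow_apply, d, pow_two]
        by_cases ht1 : t = i
        · subst ht1; simp [Ne.symm hi, hu]
        · by_cases ht2 : t = σ i
          · subst ht2; simp [hi, hu']
          · simp [ht1, ht2]
  · have h := padic_card_SL hF (Fin n) (n := n) (by simp) hnpos
    rw [(padic_prod_one_mod hF h4 n).2, ← ha, mul_comm n] at h
    refine Nat.eq_of_mul_eq_mul_right (show 0 < 2 ^ a by positivity) ?_
    rw [hP, ← pow_add]
    congr 1
    omega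

end Cfsg.Lib.WreathSylowTwo
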