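import Cfsg.Agent.Classical.WreathSylowTwo.Abstract
import Cfsg.Agent.Classical.OrthSylowTwo.Standard
import Cfsg.Agent.Classical.Misc.SLTwoTori
import Cfsg.Agent.Classical.SL

/-!
# Two-by-two Sylow 2-subgroups
-/

set_option autoImplicit false
set_option linter.unusedSectionVars false
set_option linter.style.haveILetI false

namespace Cfsg.Lib.WreathSylowTwo

open Matrix Subgroup Cfsg.Lib.OrthSylowTwo
open scoped commutatorElement

universe u

variable {F : Type u} [Field F]

/-- The matrix of `x + y√-1`. -/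
def rot (x y : F) : Matrix (Fin 2) (Fin 2) F := !![x, y; -y, x]

theorem rot_mul (x y x' y' : F) : rot x y * rot x' y' = rot (x * x' - y * y') (x * y' + y * x') := by
  ext i j; fin_cases i <;> fin_cases j <;> simp [rot, Matrix.mul_apply, Fin.sum_univ_two] <;> ring

theorem rot_one : rot (1 : F) 0 = 1 := by simp [rot, Matrix.one_fin_two]

theorem det_rot (x y : F) : (rot x y).det = x * x + y * y := by simp [rot, Matrix.det_fin_two_of]

theorem rot_inj {x y x' y' : F} (h : rot x y = rot x' y') : x = x' ∧ y = y' :=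
  ⟨congrFun (congrFun h 0) 0, congrFun (congrFun h 0) 1⟩

/-- A subgroup of order `2 ^ a` of an abelian group of the same two-part contains every 2-element. -/
theorem exists_two_part {G : Type*} [Group G] [Finite G] (R : Subgroup G)
    (hR : ∀ a ∈ R, ∀ b ∈ R, a * b = b * a) :
    ∃ S : Subgroup G, S ≤ R ∧ IsPGroup 2 S ∧ Nat.card S = 2 ^ (Nat.card R).factorization 2 ∧
      ∀ g ∈ R, ∀ k : ℕ, g ^ 2 ^ k = 1 → g ∈ S := by
  haveI : Fact (Nat.Prime 2) := ⟨Nat.prime_two⟩
  obtain ⟨T⟩ := (inferInstance : Nonempty (Sylow 2 R))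
  haveI : T.toSubgroup.Normal := ⟨fun a ha b => by
    rw [show b * a * b⁻¹ = a from Subtype.ext (by
      simp only [Subgroup.coe_mul, InvMemClass.coe_inv]
      rw [hR b b.2 a a.2, mul_inv_cancel_right])]
    exact ha⟩
  haveI := Sylow.unique_of_normal T inferInstance
  refine ⟨T.toSubgroup.map R.subtype, map_subtype_le _, T.2.map _, ?_, fun g hg k hk => ?_⟩
  · rw [card_map_of_injective R.subtype_injective, Sylow.card_eq_multiplicity]
  · have hz : IsPGroup 2 (zpowers (⟨g, hg⟩ : R)) := IsPGroup.of_card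
      (n := (Nat.card (zpowers (⟨g, hg⟩ : R))).factorization 2) (by
        rw [Nat.card_zpowers]
        obtain ⟨j, -, hj⟩ := (Nat.dvd_prime_pow Nat.prime_two).mp
          (orderOf_dvd_of_pow_eq_one (show (⟨g, hg⟩ : R) ^ 2 ^ k = 1 from Subtype.ext (by simpa using hk)))
        rw [hj, Nat.Prime.factorization_pow Nat.prime_two]
        simp)
    obtain ⟨T', hT'⟩ := hz.exists_le_sylow
    exact ⟨⟨g, hg⟩, Subsingleton.elim T' T ▸ hT' (mem_zpowers _), rfl⟩

variable [Fintype F] [DecidableEq F]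

theorem exists_neg_one_sum : ∃ a b : F, a * a + b * b = -1 := by
  obtain ⟨p, hp⟩ := CharP.exists F
  haveI : NeZero p := ⟨(CharP.char_is_prime F p).ne_zero⟩
  obtain ⟨a, b, h⟩ := CharP.sq_add_sq F p (-1)
  exact ⟨(a : F), (b : F), by push_cast at h; linear_combination h⟩

/-- Rotations of determinant one. -/
def rotSL : Subgroup (SpecialLinearGroup (Fin 2) F) where
  carrier := {g | ∃ x y, (g : Matrix (Fin 2) (Fin 2) F) = rot x y}
  one_mem' := ⟨1, 0, rot_one.symm⟩
  mul_mem' := by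
    rintro a b ⟨x, y, ha⟩ ⟨x', y', hb⟩
    exact ⟨_, _, (show ((a * b : SpecialLinearGroup (Fin 2) F) : Matrix (Fin 2) (Fin 2) F) = (a : Matrix (Fin 2) (Fin 2) F) * (b : Matrix (Fin 2) (Fin 2) F) from rfl).trans (by rw [ha, hb, rot_mul])⟩
  inv_mem' := by
    rintro a ⟨x, y, ha⟩
    exact ⟨x, -y, (show ((a⁻¹ : SpecialLinearGroup (Fin 2) F) : Matrix (Fin 2) (Fin 2) F) = Matrix.adjugate (a : Matrix (Fin 2) (Fin 2) F) from rfl).trans (by rw [ha]; simp [rot, Matrix.adjugate_fin_two])⟩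

theorem card_rotSL (h2 : (2 : F) ≠ 0) :
    2 * Nat.card (rotSL (F := F)) = Nat.card (Cfsg.isometryGroup F (⇑(plane F))) := by
  set χ := Cfsg.Lib.Classical.Refl.detHom (plane F)
  have hQ : (QuadraticMap.polarBilin (plane F)).Nondegenerate := wss_nondegenerate _ (fun _ => one_ne_zero) h2
  have hu : plane F ![1, 0] ≠ 0 := by simp [plane_apply]
  have hrange : χ.range = zpowers (-1 : Fˣ) := by
    refine le_antisymm ?_ ?_
    · rintro _ ⟨g, rfl⟩
      rcases Cfsg.Lib.Classical.Refl.det_sq (plane F) hQ g with h | h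
      · rw [show χ g = 1 from Units.ext h]; exact one_mem _
      · rw [show χ g = -1 from Units.ext h]; exact mem_zpowers _
    · rw [zpowers_le]
      exact ⟨_, Cfsg.Lib.Classical.Refl.detHom_refl (plane F) _ hu⟩
  have h := card_mul_index χ.ker
  rw [index_ker, hrange, Nat.card_zpowers, orderOf_eq_prime (p := 2) (by rw [pow_two]; simp) (neg_one_ne_one h2)] at h
  rw [← h, mul_comm]
  congr 1
  let f : rotSL (F := F) → χ.ker := fun g => ⟨⟨SpecialLinearGroup.toGL g.1, by
      obtain ⟨x, y, hg⟩ := g.2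
      refine (Cfsg.Lib.Classical.Refl.mem_iff (plane F)).mpr fun v => ?_
      show plane F ((g.1 : Matrix (Fin 2) (Fin 2) F) *ᵥ v) = plane F v
      have hd := g.1.2
      rw [hg, det_rot] at hd
      rw [hg, plane_apply, plane_apply]
      simp [rot, Matrix.mulVec, dotProduct, Fin.sum_univ_two]
      linear_combination (v 0 * v 0 + v 1 * v 1) * hd⟩,
    MonoidHom.mem_ker.mpr (Units.ext g.1.2)⟩
  refine Nat.card_congr (Equiv.ofBijective f ⟨fun a b hab => ?_, fun k => ?_⟩)
  · exact Subtype.ext (Subtype.ext (congrArg (fun k : χ.ker => ((k.1.1 : GL (Fin 2) F) : Matrix (Fin 2) (Fin 2) F)) hab))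
  · obtain ⟨k, hk⟩ := k
    set M := Cfsg.Lib.Classical.Refl.mat (plane F) k with hM
    have hdet : M.det = 1 := congrArg Units.val (MonoidHom.mem_ker.mp hk)
    have hiso : ∀ x, plane F (M *ᵥ x) = plane F x := (Cfsg.Lib.Classical.Refl.mem_iff (plane F)).mp k.2
    have h10 := hiso ![1, 0]
    have h01 := hiso ![0, 1]
    have h11 := hiso ![1, 1]
    simp [Matrix.mulVec, dotProduct, Fin.sum_univ_two, plane_apply] at h10 h01 h11
    rw [Matrix.det_fin_two] at hdet
    have hab : M 0 0 * M 0 1 + M 1 0 * M 1 1 = 0 := by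
      have : 2 * (M 0 0 * M 0 1 + M 1 0 * M 1 1) = 0 := by linear_combination h11 - h10 - h01
      exact (mul_eq_zero.mp this).resolve_left h2
    have hda : M 1 1 = M 0 0 := by linear_combination M 0 0 * hdet - M 1 1 * h10 + M 1 0 * hab
    have hbc : M 1 0 = -M 0 1 := by linear_combination -M 1 0 * hdet - M 0 1 * h10 + M 0 0 * hab
    refine ⟨⟨⟨M, by rw [Matrix.det_fin_two]; exact hdet⟩, M 0 0, M 0 1, ?_⟩, Subtype.ext (Subtype.ext (Units.ext rfl))⟩
    ext i j
    fin_cases i <;> fin_cases j <;> simp [rot, hda, hbc]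

theorem rotSL_comm : ∀ a ∈ rotSL (F := F), ∀ b ∈ rotSL, a * b = b * a := by
  rintro a ⟨x, y, ha⟩ b ⟨x', y', hb⟩
  refine Subtype.ext ?_
  show (a : Matrix (Fin 2) (Fin 2) F) * (b : Matrix (Fin 2) (Fin 2) F) = (b : Matrix (Fin 2) (Fin 2) F) * (a : Matrix (Fin 2) (Fin 2) F)
  rw [ha, hb, rot_mul, rot_mul]
  congr 1 <;> ring

/-- A Sylow 2-subgroup of `SL₂` and generators with squares in its derived group. -/
theorem exists_sl_pair (hF : Odd (Fintype.card F)) :
    ∃ (D : Subgroup (SpecialLinearGroup (Fin 2) F)) (g : Set D), closure g = ⊤ ∧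
      (∀ x ∈ g, x ^ 2 ∈ commutator D) ∧ Nat.card D = 2 ^ padicValNat 2 (Fintype.card F ^ 2 - 1) := by
  haveI : Fact (Nat.Prime 2) := ⟨Nat.prime_two⟩
  have h2 : (2 : F) ≠ 0 := Cfsg.Lib.Classical.Refl.two_ne_zero_of_odd hF
  obtain ⟨S, hSR, hS2, hSc, hSmem⟩ := exists_two_part (rotSL (F := F)) rotSL_comm
  obtain ⟨a, b, hab⟩ := exists_neg_one_sum (F := F)
  let w : SpecialLinearGroup (Fin 2) F := ⟨!![a, b; b, -a], by rw [Matrix.det_fin_two_of]; linear_combination -hab⟩
  let j : SpecialLinearGroup (Fin 2) F := ⟨rot 0 1, by rw [det_rot]; ring⟩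
  have hw2 : w * w = j * j := Subtype.ext (by
    show !![a, b; b, -a] * !![a, b; b, -a] = rot (0 : F) 1 * rot 0 1
    ext i j
    fin_cases i <;> fin_cases j <;> simp [rot, Matrix.mul_apply, Fin.sum_univ_two] <;>
      first | ring1 | linear_combination hab)
  have hne : ((w * w : SpecialLinearGroup (Fin 2) F) : Matrix (Fin 2) (Fin 2) F) 0 0 = -1 := by
    rw [hw2]; show ((rot (0 : F) 1 * rot 0 1 : Matrix (Fin 2) (Fin 2) F)) 0 0 = -1; rw [rot_mul]; simp [rot]
  have hw22 : w * w ≠ 1 := fun h => neg_one_ne_one h2 (Units.ext (by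
    rw [h] at hne; simpa using hne.symm))
  have hjj : j * j * (j * j) = 1 := Subtype.ext (by
    show rot (0 : F) 1 * rot 0 1 * (rot 0 1 * rot 0 1) = 1
    rw [rot_mul, rot_mul, ← rot_one]; congr 1 <;> ring)
  have hjS : j ∈ S := hSmem j ⟨0, 1, rfl⟩ 2 (by
    rw [show (2 : ℕ) ^ 2 = 2 + 2 from rfl, pow_add, pow_two]; exact hjj)
  have hinv : ∀ r ∈ rotSL (F := F), w * r * w⁻¹ = r⁻¹ := by
    intro r hr
    rw [mul_inv_eq_iff_eq_mul]
    obtain ⟨x, y, hxy⟩ := hr
    refine Subtype.ext ?_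
    show (w : Matrix (Fin 2) (Fin 2) F) * (r : Matrix (Fin 2) (Fin 2) F) = Matrix.adjugate (r : Matrix (Fin 2) (Fin 2) F) * (w : Matrix (Fin 2) (Fin 2) F)
    rw [hxy]
    ext i j
    fin_cases i <;> fin_cases j <;> simp [w, rot, Matrix.adjugate_fin_two, Matrix.mul_apply, Fin.sum_univ_two] <;> ring
  have hTS : zpowers w ≤ normalizer (S : Set (SpecialLinearGroup (Fin 2) F)) := by
    rw [zpowers_le, mem_normalizer_iff]
    intro r
    constructor
    · intro hr; rw [hinv r (hSR hr)]; exact inv_mem hr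
    · intro hr
      have h1 := hinv _ (hSR hr)
      have h2' : w⁻¹ * (w * r * w⁻¹)⁻¹ * w = w * r * w⁻¹ := by
        rw [← h1]; group
      have h3 : r = w⁻¹ * (w * r * w⁻¹) * w := by group
      have h4 : r = (w * r * w⁻¹)⁻¹ := by
        rw [h3]
        have := congrArg (·⁻¹) h2'
        simpa [mul_assoc] using this
      rw [h4]; exact inv_mem hr
  have hw4 : (w * w) * (w * w) = 1 := by rw [hw2, hjj]
  have hwS : w ∉ S := fun h => by
    have h1 := hinv w (hSR h)
    rw [mul_inv_cancel_right] at h1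
    exact hw22 (by nth_rewrite 1 [h1]; rw [inv_mul_cancel])
  have hinf : Nat.card ↥(S ⊓ zpowers w) = 2 := by
    have hord : orderOf w = 4 := orderOf_eq_prime_pow (p := 2) (n := 1)
      (by simpa [pow_two] using hw22) (by
        rw [show (2 : ℕ) ^ (1 + 1) = 2 + 2 from rfl, pow_add, pow_two]; exact hw4)
    have hd : Nat.card ↥(S ⊓ zpowers w) ∣ 4 := by
      rw [← hord, ← Nat.card_zpowers]; exact card_dvd_of_le inf_le_right
    have hmem : w * w ∈ S ⊓ zpowers w :=
      ⟨hw2 ▸ mul_mem hjS hjS, mul_mem (mem_zpowers w) (mem_zpowers w)⟩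
    have h1 : Nat.card ↥(S ⊓ zpowers w) ≠ 1 := fun h =>
      hw22 (Subgroup.mem_bot.mp (eq_bot_of_card_eq _ h ▸ hmem))
    have h4 : Nat.card ↥(S ⊓ zpowers w) ≠ 4 := fun h => hwS
      ((eq_of_le_of_card_ge inf_le_right (by rw [h, Nat.card_zpowers, hord])).ge (mem_zpowers w)).1
    have hle := Nat.le_of_dvd (by norm_num) hd
    interval_cases hh : Nat.card ↥(S ⊓ zpowers w) <;> simp_all
  set D := S ⊔ zpowers w with hDdef
  have hwD : w ∈ D := mem_sup_right (mem_zpowers w)
  have hgen : closure ((S : Set (SpecialLinearGroup (Fin 2) F)) ∪ {w}) = D := by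
    rw [Subgroup.closure_union, closure_eq, ← zpowers_eq_closure]
  refine ⟨D, (fun x : D => (x : SpecialLinearGroup (Fin 2) F)) ⁻¹' ((S : Set _) ∪ {w}), ?_, ?_, ?_⟩
  · apply Subgroup.map_injective D.subtype_injective
    rw [MonoidHom.map_closure, ← MonoidHom.range_eq_map, D.range_subtype]
    show closure ((fun x : D => (x : SpecialLinearGroup (Fin 2) F)) '' _) = D
    rw [Set.image_preimage_eq_of_subset, hgen]
    intro y hy
    exact ⟨⟨y, hgen ▸ subset_closure hy⟩, rfl⟩
  · rintro x (hx | hx)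
    · have h : ⁅(⟨w, hwD⟩ : D), x⁆ ∈ commutator D := commutator_mem_commutator (mem_top _) (mem_top _)
      have he : ⁅(⟨w, hwD⟩ : D), x⁆ = (x ^ 2)⁻¹ := Subtype.ext (by
        push_cast [commutatorElement_def]
        rw [hinv _ (hSR hx), pow_two, _root_.mul_inv_rev])
      rw [he] at h
      exact inv_mem_iff.mp h
    · have h : ⁅(⟨w, hwD⟩ : D), (⟨j, mem_sup_left hjS⟩ : D)⁆ ∈ commutator D :=
        commutator_mem_commutator (mem_top _) (mem_top _)
      have he : ⁅(⟨w, hwD⟩ : D), (⟨j, mem_sup_left hjS⟩ : D)⁆ = (x ^ 2)⁻¹ := Subtype.ext (by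
        push_cast [commutatorElement_def]
        rw [hinv _ (hSR hjS), pow_two, show ((x : D) : SpecialLinearGroup (Fin 2) F) = w from Set.mem_singleton_iff.mp hx, hw2, _root_.mul_inv_rev])
      rw [he] at h
      exact inv_mem_iff.mp h
  · have h := Cfsg.Lib.Coprime.card_sup_mul_card_inf hTS
    rw [hinf] at h
    have hord : Nat.card (zpowers w) = 4 := by
      rw [Nat.card_zpowers]
      exact orderOf_eq_prime_pow (p := 2) (n := 1) (by simpa [pow_two] using hw22) (by
        rw [show (2 : ℕ) ^ (1 + 1) = 2 + 2 from rfl, pow_add, pow_two]; exact hw4)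
    rw [hord, hSc] at h
    have hv := plane_valuation hF
    rw [← card_rotSL h2, Nat.factorization_mul (by norm_num) Nat.card_pos.ne', Finsupp.add_apply,
      Nat.Prime.factorization_self Nat.prime_two] at hv
    rw [← hv, pow_add, pow_one]
    change Nat.card ↥D * 2 = _ at h
    omega

end Cfsg.Lib.WreathSylowTwo
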