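import Cfsg.Agent.Classical.WreathSylowTwo.Monomial

/-!
# The statements for the standard index sets
-/

set_option autoImplicit false

namespace Cfsg.Lib.WreathSylowTwo

open Matrix Cfsg.Lib.OrthSylowTwo

universe u

variable {F : Type u} [Field F] [Fintype F]

/-- Reindexing of a special linear group. -/
def slCongr {ι κ : Type} [Fintype ι] [DecidableEq ι] [Fintype κ] [DecidableEq κ] (e : ι ≃ κ) :
    SpecialLinearGroup ι F ≃* SpecialLinearGroup κ F where
  toFun A := ⟨Matrix.reindexAlgEquiv F F e (A : Matrix ι ι F), by rw [Matrix.det_reindexAlgEquiv]; exact A.2⟩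
  invFun A := ⟨Matrix.reindexAlgEquiv F F e.symm (A : Matrix κ κ F), by rw [Matrix.det_reindexAlgEquiv]; exact A.2⟩
  left_inv A := Subtype.ext (by simp)
  right_inv A := Subtype.ext (by simp)
  map_mul' A B := Subtype.ext (map_mul (Matrix.reindexAlgEquiv F F e) _ _)

theorem sp_squares (hF : Odd (Fintype.card F)) (n : ℕ) : SquaresComm (Matrix.symplecticGroup (Fin n) F) := by
  classical
  exact squaresComm_symplectic hF n

theorem sl_even_squares (hF : Odd (Fintype.card F)) (m : ℕ) (hm : 1 ≤ m)
    (hq : 4 ∣ Fintype.card F + 1 ∨ (4 ∣ Fintype.card F - 1 ∧ ∃ j : ℕ, m = 2 ^ j)) :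
    SquaresComm (SpecialLinearGroup (Fin (2 * m)) F) := by
  classical
  have := Nat.odd_iff.mp hF
  rcases hq with h | ⟨h, j, rfl⟩
  · exact (squaresComm_SL_even hF (by omega) hm).of_mulEquiv
      (slCongr (finSumFinEquiv.trans (finCongr (two_mul m).symm)))
  · exact (squaresComm_SL_two_pow hF (by omega) (j + 1)).of_mulEquiv (slCongr (finCongr (pow_succ' 2 j)))

theorem sl_odd_squares (hF : Odd (Fintype.card F)) (hq : 4 ∣ Fintype.card F + 1) (m : ℕ) :
    SquaresComm (SpecialLinearGroup (Fin (2 * m + 1)) F) := by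
  classical
  exact (squaresComm_SL_odd hF (by omega)).of_mulEquiv
    (slCongr (((Equiv.sumCongr finSumFinEquiv finOneEquiv.symm).trans finSumFinEquiv).trans
      (finCongr (by ring))))

end Cfsg.Lib.WreathSylowTwo
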